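import Cfsg.Agent.Co2ThreeC.Order

/-!
The finite facts about the two spin images: classes of involutions, no offender fixing a non-singular
vector, and rigidity of the pointwise stabilisers of perps of pairs.
-/

set_option autoImplicit false
set_option maxRecDepth 100000

open Cfsg.Agent.ThreeTrans.OrthCohom Cfsg.Agent.CoOneType Cfsg.Agent.CoTwoType Cfsg.Agent.Classical.Quad
  Cfsg.Agent.Compute
open Cfsg.Agent.CoTwoUniq.Cent (tO tO_dc o_ext shl_lt tO_mem exists_rel apF)
open Cfsg.Agent.CoTwoThree (qMinus u4)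

namespace Cfsg.Agent.Co2ThreeC

variable {G : Subgroup O}

theorem u4_le (hG : G = u4 ∨ G = sp6) : u4 ≤ G := by
  rcases hG with rfl | rfl
  exacts [le_rfl, u4_le_sp6]

theorem le_sp6 (hG : G = u4 ∨ G = sp6) : G ≤ sp6 := by
  rcases hG with rfl | rfl
  exacts [u4_le_sp6, le_rfl]

theorem Rep.canon {o : O} {a b c : ℕ} (h : Rep o (mulc a b)) (h' : Rep o c) (hc : pk (col c) = c) :
    mulc a b = c :=
  (pk_congr fun i hi => by rw [h'.col_eq h hi, col_mulc _ _ hi] : mulc a b = pk (col c)).trans hc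

theorem rep_ap (w : List ℕ) {v : ℕ} (hv : v < 256) : (wO w).1 (dc v) = dc (ap8 (wc w) v) :=
  (rep_wO w).apply hv

theorem Bp_map (o : O) (x y : V) : Bp (o.1 x) (o.1 y) = Bp x y := by
  have h := q_add (o.1 x) (o.1 y)
  rw [← map_add, q_map, q_map, q_map, q_add] at h
  exact (add_left_cancel h).symm

/-! ## Involutions -/

/-- The code of a representative. -/
def repC (i : ℕ) : ℕ := wc (repW.getD i [])

theorem repW_uw : (allBelow 4 fun i => uw (repW.getD i [])) = true := by decide +kernel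

/-- The conjugators cover the involutions of a table. -/
def conjOK (t : Tr) (cj : List (ℕ × List ℕ × ℕ)) : Bool :=
  (t.items.all fun e => Nat.beq e.1 idc || !(Nat.beq (mulc e.1 e.1) idc) ||
      cj.any fun c => Nat.beq c.1 e.1) &&
    cj.all fun c => Nat.blt c.2.2 4 && Nat.beq (mulc c.1 (wc c.2.1)) (mulc (wc c.2.1) (repC c.2.2))

theorem conjU_ok : conjOK sylU conjU = true := by decide +kernel

theorem conjS_ok : conjOK sylS conjS = true := by decide +kernel

theorem conjU_uw : (conjU.all fun c => uw c.2.1) = true := by decide +kernel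

/-- The Sylow table of one of the two groups. -/
structure Syl (G : Subgroup O) (gens : List (List ℕ)) (t : Tr) (cj : List (ℕ × List ℕ × ℕ)) (n : ℕ) : Prop where
  ok : okT gens t = true
  le : tgrp gens ≤ G
  len : t.items.length = 2 ^ n
  top : ¬ 2 ^ (n + 1) ∣ Nat.card G
  conj : conjOK t cj = true
  conj_mem : ∀ c ∈ cj, wO c.2.1 ∈ G
  central : (gens.all fun g => Nat.beq (wc (g ++ repW.getD 3 [])) (wc (repW.getD 3 [] ++ g))) = true

theorem central_U : (sylUGens.all fun g => Nat.beq (wc (g ++ repW.getD 3 [])) (wc (repW.getD 3 [] ++ g))) = true := by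
  decide +kernel

theorem central_S : (sylSGens.all fun g => Nat.beq (wc (g ++ repW.getD 3 [])) (wc (repW.getD 3 [] ++ g))) = true := by
  decide +kernel

theorem exists_syl (hG : G = u4 ∨ G = sp6) : ∃ gens t cj n, Syl G gens t cj n := by
  rcases hG with rfl | rfl
  · refine ⟨sylUGens, sylU, conjU, 7, sylU_ok, tgrp_le_u4 gens_uw.1, table_lengths.1, fun h => ?_,
      conjU_ok, fun c hc => wO_mem_u4 _ (List.all_eq_true.1 conjU_uw c hc), central_U⟩
    exact absurd (h.trans card_u4_dvd) (by norm_num)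
  · refine ⟨sylSGens, sylS, conjS, 9, sylS_ok, tgrp_le_sp6 _, table_lengths.2.1, fun h => ?_,
      conjS_ok, fun c _ => wO_mem_sp6 _, central_S⟩
    rw [card_sp6] at h
    exact absurd h (by norm_num)

/-- Every involution is conjugate to one of four. -/
theorem rep_conj (hG : G = u4 ∨ G = sp6) {r : O} (hr : r ∈ G) (h2 : r * r = 1) (h1 : r ≠ 1) :
    ∃ g ∈ G, ∃ i, i < 4 ∧ g * r * g⁻¹ = wO (repW.getD i []) := by
  haveI : Fact (Nat.Prime 2) := ⟨Nat.prime_two⟩
  obtain ⟨gens, t, cj, n, S⟩ := exists_syl hG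
  have hp : IsPGroup 2 (Subgroup.zpowers r) := IsPGroup.of_card (n := 1) (by
    rw [Nat.card_zpowers, pow_one, orderOf_eq_prime (by rw [pow_two]; exact h2) h1])
  obtain ⟨g, hg, hgs⟩ := conj_into S.le (by rw [card_tgrp S.ok, S.len]) S.top (Subgroup.zpowers_le.2 hr) hp
  obtain ⟨e, he, hre⟩ := tgrp_code S.ok (hgs r (Subgroup.mem_zpowers r))
  have hne : e.1 ≠ idc := fun h => h1 (by
    have h' := hre.unique (h ▸ rep_one)
    rwa [mul_inv_eq_one, mul_eq_left] at h')
  have hsq : mulc e.1 e.1 = idc := Rep.canon (hre.mul hre)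
    (by rw [show g * r * g⁻¹ * (g * r * g⁻¹) = g * (r * r) * g⁻¹ by group, h2, mul_one, mul_inv_cancel]
        exact rep_one)
    (pk_col_wc [])
  have hc := S.conj
  simp only [conjOK, Bool.and_eq_true, List.all_eq_true, Bool.or_eq_true, Bool.not_eq_true', Nat.beq_eq,
    List.any_eq_true, Nat.blt_eq] at hc
  rcases hc.1 e he with (h | h) | ⟨c, hcm, hce⟩
  · exact absurd h hne
  · rw [hsq, Nat.beq_refl] at h
    exact absurd h (by simp)
  · obtain ⟨hlt, heq⟩ := hc.2 c hcm
    rw [hce] at heq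
    have key := (hre.mul (rep_wO c.2.1)).unique (heq ▸ (rep_wO c.2.1).mul (rep_wO (repW.getD c.2.2 [])))
    refine ⟨(wO c.2.1)⁻¹ * g, G.mul_mem (G.inv_mem (S.conj_mem c hcm)) hg, c.2.2, hlt, ?_⟩
    rw [show (wO c.2.1)⁻¹ * g * r * ((wO c.2.1)⁻¹ * g)⁻¹ = (wO c.2.1)⁻¹ * (g * r * g⁻¹ * wO c.2.1) by group,
      key, inv_mul_cancel_left]

/-- The check on the first three classes. -/
noncomputable def repA (i : ℕ) : Bool :=
  let r := repC i
  let e := threeW.getD i []
  let c := wc e
  (allBelow 256 fun v => !(Nat.beq (ap8 r v) v) || !(allBelow 256 fun u => !(Nat.beq (ap8 r u ^^^ u) v))) &&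
    uw e && Nat.beq (wc (e ++ (e ++ e))) idc && !(Nat.beq c idc) && Nat.beq (mulc c r) (mulc r c)

theorem repA_ok : allBelow 3 repA = true := by decide +kernel

theorem repB_ok : (Nat.beq ((List.range 256).filter fun v => Nat.beq (ap8 (repC 3) v) v).length 64 &&
    Nat.beq (ap8 (repC 3) 68) 68 && qn 68 &&
    nineGens.all fun g => Nat.beq (wc (g ++ repW.getD 3 [])) (wc (repW.getD 3 [] ++ g))) = true := by
  decide +kernel

theorem commute_wO {u w : List ℕ} (h : wc (u ++ w) = wc (w ++ u)) : Commute (wO u) (wO w) := by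
  have e := wO_eq h
  rw [wO_append, wO_append] at e
  exact e

theorem tgrp_centralizes {gens : List (List ℕ)} {w : List ℕ}
    (h : (gens.all fun g => Nat.beq (wc (g ++ w)) (wc (w ++ g))) = true) :
    tgrp gens ≤ Subgroup.centralizer ({wO w} : Set O) := by
  rw [tgrp, Subgroup.closure_le]
  rintro _ ⟨g, hg, rfl⟩
  exact Subgroup.mem_centralizer_singleton_iff.2
    (commute_wO (Nat.eq_of_beq_eq_true (List.all_eq_true.1 h g hg))).eq

/-- The centraliser in a subgroup. -/
abbrev centG (G : Subgroup O) (r : O) : Subgroup O := G ⊓ Subgroup.centralizer ({r} : Set O)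

theorem card_centG_conj {g r : O} (hg : g ∈ G) :
    Nat.card ↥(centG G (g * r * g⁻¹)) = Nat.card ↥(centG G r) := Nat.card_congr
  { toFun := fun x => ⟨g⁻¹ * x.1 * g, G.mul_mem (G.mul_mem (G.inv_mem hg) x.2.1) hg,
      Subgroup.mem_centralizer_singleton_iff.2 (by
        have h : x.1 * (g * r * g⁻¹) = g * r * g⁻¹ * x.1 := Subgroup.mem_centralizer_singleton_iff.1 x.2.2
        calc g⁻¹ * x.1 * g * r = g⁻¹ * (x.1 * (g * r * g⁻¹)) * g := by group
          _ = g⁻¹ * (g * r * g⁻¹ * x.1) * g := by rw [h]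
          _ = r * (g⁻¹ * x.1 * g) := by group)⟩
    invFun := fun y => ⟨g * y.1 * g⁻¹, G.mul_mem (G.mul_mem hg y.2.1) (G.inv_mem hg),
      Subgroup.mem_centralizer_singleton_iff.2 (by
        have h : y.1 * r = r * y.1 := Subgroup.mem_centralizer_singleton_iff.1 y.2.2
        calc g * y.1 * g⁻¹ * (g * r * g⁻¹) = g * (y.1 * r) * g⁻¹ := by group
          _ = g * (r * y.1) * g⁻¹ := by rw [h]
          _ = g * r * g⁻¹ * (g * y.1 * g⁻¹) := by group)⟩
    left_inv := fun x => Subtype.ext (by group)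
    right_inv := fun y => Subtype.ext (by group) }

/-- The first three classes: fixed vectors are displacements and an element of order three commutes. -/
def KindA (G : Subgroup O) (r : O) : Prop :=
  (∀ v, r.1 v = v → ∃ u, r.1 u + u = v) ∧ ∃ e ∈ G, e ^ 3 = 1 ∧ e ≠ 1 ∧ Commute e r

/-- The fourth class. -/
def KindB (G : Subgroup O) (r : O) : Prop :=
  Nat.card {v : V // r.1 v = v} = 64 ∧ (∃ x, qP 4 x = 1 ∧ r.1 x = x) ∧
    9 ∣ Nat.card ↥(centG G r) ∧ ∃ a, 2 ^ a ∣ Nat.card ↥(centG G r) ∧ ¬ 2 ^ (a + 1) ∣ Nat.card G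

theorem kindA_rep (hG : G = u4 ∨ G = sp6) {i : ℕ} (hi : i < 3) : KindA G (wO (repW.getD i [])) := by
  have h := allBelow_eq_true.mp repA_ok i hi
  simp only [repA, repC, Bool.and_eq_true, Nat.beq_eq, Bool.not_eq_true'] at h
  obtain ⟨⟨⟨⟨hf, hu⟩, h3⟩, hne⟩, hc⟩ := h
  refine ⟨fun v hv => ?_, wO (threeW.getD i []), u4_le hG (wO_mem_u4 _ hu), ?_, fun e => ?_, ?_⟩
  · obtain ⟨k, rfl⟩ := dc_surj v
    have h' := allBelow_eq_true.mp hf k.val k.2
    rw [((rep_wO _).fix_iff k.2).1 hv, Nat.beq_refl, Bool.not_true, Bool.false_or, Bool.not_eq_true'] at h'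
    by_contra hno
    refine Bool.eq_false_iff.1 h' (allBelow_eq_true.mpr fun u hu => ?_)
    rw [Bool.not_eq_true', Bool.eq_false_iff]
    intro e
    exact hno ⟨dc u, by rw [rep_ap _ hu, ← dc_xor, Nat.eq_of_beq_eq_true e]⟩
  · have h' : wc (threeW.getD i [] ++ (threeW.getD i [] ++ threeW.getD i [])) = wc [] := h3
    have e := wO_eq h'
    rw [wO_append, wO_append, wO_nil] at e
    rw [pow_three, e]
  · have : wc (threeW.getD i []) = idc := wc_eq (u := threeW.getD i []) (w := []) e
    rw [this, Nat.beq_refl] at hne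
    exact absurd hne (by simp)
  · exact ((rep_wO _).mul (rep_wO _)).unique (hc ▸ (rep_wO _).mul (rep_wO _))

theorem kindB_rep (hG : G = u4 ∨ G = sp6) : KindB G (wO (repW.getD 3 [])) := by
  have h := repB_ok
  simp only [repC, Bool.and_eq_true, Nat.beq_eq] at h
  obtain ⟨⟨⟨hl, hx⟩, hq⟩, hn⟩ := h
  refine ⟨?_, ⟨dc 68, (q_one_iff (by norm_num)).2 hq, by rw [rep_ap _ (by norm_num), hx]⟩, ?_, ?_⟩
  · rw [← hl]
    let L := (List.range 256).filter fun v => Nat.beq (ap8 (wc (repW.getD 3 [])) v) v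
    have hnd : L.Nodup := List.nodup_range.filter _
    have hmem : ∀ v, v ∈ L.toFinset ↔ v < 256 ∧ ap8 (wc (repW.getD 3 [])) v = v := fun v => by
      simp only [L, List.mem_toFinset, List.mem_filter, List.mem_range, Nat.beq_eq]
    show _ = L.length
    rw [← List.toFinset_card_of_nodup hnd, ← Nat.card_eq_finsetCard]
    exact Nat.card_congr
      { toFun := fun v => ⟨(cd v.1).val, (hmem _).2 ⟨(cd v.1).2,
          ((rep_wO _).fix_iff (cd v.1).2).1 (by rw [dc_cd]; exact v.2)⟩⟩
        invFun := fun n => ⟨dc n.1, ((rep_wO _).fix_iff ((hmem _).1 n.2).1).2 ((hmem _).1 n.2).2⟩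
        left_inv := fun v => Subtype.ext (dc_cd v.1)
        right_inv := fun n => Subtype.ext (congrArg Fin.val (cd_dc ⟨n.1, ((hmem _).1 n.2).1⟩)) }
  · have h9 : Nat.card ↥(tgrp nineGens) = 9 := by rw [card_tgrp nine_ok, table_lengths.2.2.2]
    exact h9 ▸ Subgroup.card_dvd_of_le
      (le_inf ((tgrp_le_u4 gens_uw.2).trans (u4_le hG)) (tgrp_centralizes hn))
  · obtain ⟨gens, t, cj, n, S⟩ := exists_syl hG
    refine ⟨n, ?_, S.top⟩
    have h2 : Nat.card ↥(tgrp gens) = 2 ^ n := by rw [card_tgrp S.ok, S.len]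
    exact h2 ▸ Subgroup.card_dvd_of_le (le_inf S.le (tgrp_centralizes S.central))

/-- The kind of an involution. -/
theorem kinds (hG : G = u4 ∨ G = sp6) {r : O} (hr : r ∈ G) (h2 : r * r = 1) (h1 : r ≠ 1) :
    KindA G r ∨ KindB G r := by
  obtain ⟨g, hg, i, hi, e⟩ := rep_conj hG hr h2 h1
  have hfix : ∀ v, r.1 v = v ↔ (g * r * g⁻¹).1 (g.1 v) = g.1 v := fun v => by
    rw [← oG_mul_apply, inv_mul_cancel_right, oG_mul_apply]
    exact ⟨fun h => by rw [h], fun h => g.1.injective h⟩
  rcases Nat.lt_or_ge i 3 with hlt | hge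
  · left
    obtain ⟨hf, f, hf1, hf3, hne, hcom⟩ := kindA_rep hG hlt
    rw [← e] at hf hcom
    refine ⟨fun v hv => ?_, g⁻¹ * f * g, G.mul_mem (G.mul_mem (G.inv_mem hg) hf1) hg, ?_, fun h => ?_, ?_⟩
    · obtain ⟨u, hu⟩ := hf _ ((hfix v).1 hv)
      refine ⟨(g⁻¹).1 u, g.1.injective ?_⟩
      rw [← hu, map_add, ← oG_mul_apply, ← oG_mul_apply, ← oG_mul_apply, mul_inv_cancel, oG_one_apply,
        mul_assoc]
    · have : (g⁻¹ * f * g) ^ 3 = g⁻¹ * f ^ 3 * g := by simp only [pow_succ, pow_zero, one_mul]; group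
      rw [this, hf3, mul_one, inv_mul_cancel]
    · exact hne (by
        have h' := congrArg (fun x => g * x * g⁻¹) h
        simpa [mul_assoc] using h')
    · show g⁻¹ * f * g * r = r * (g⁻¹ * f * g)
      calc g⁻¹ * f * g * r = g⁻¹ * (f * (g * r * g⁻¹)) * g := by group
        _ = g⁻¹ * (g * r * g⁻¹ * f) * g := by rw [hcom.eq]
        _ = _ := by group
  · right
    obtain rfl : i = 3 := by omega
    obtain ⟨hc, ⟨x, hx, hxf⟩, h9, a, ha, hn⟩ := kindB_rep hG
    rw [← e] at hc hxf h9 ha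
    rw [card_centG_conj hg] at h9 ha
    refine ⟨?_, ⟨(g⁻¹).1 x, by rw [q_map, hx], (hfix _).2 ?_⟩, h9, a, ha, hn⟩
    · rw [← hc]
      exact Nat.card_congr (Equiv.subtypeEquiv g.1.toEquiv hfix)
    · rw [show g.1 ((g⁻¹).1 x) = x by rw [← oG_mul_apply, mul_inv_cancel, oG_one_apply]]
      exact hxf

/-! ## No offender -/

/-- The involutions of the Sylow table of the point stabiliser, with fixed sets and commuting sets. -/
def ivs : List (ℕ × ℕ × ℕ) :=
  [(9241492057334612481, 1585879215345502238867166821186733047164203090481584884846345260815, 492007),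
  (9385545672759181825, 79228162495817593524129366015, 134217727),
  (9385616041503490561, 25374067445528035821874669138987728754557342245503166163255527673615, 492007),
  (9531903864555700737, 18446744073709551615, 127598266),
  (9676027848724578817, 340282366841710300949110269842519228415, 127598266),
  (11043428921898172937, 2863289685, 2047),
  (11043501489665737225, 49711408967611707132467610885, 7864807),
  (11187552906067051017, 2863289685, 2047),
  (11187625473834615305, 49711408967611707132467610885, 7864807),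
  (11333911097863569929, 2863289685, 6620858),
  (11478035082032448009, 2863289685, 6620858),
  (11553175689494792709, 2459547111782486289, 30746),
  (11843657865460189701, 2459547111782486289, 30746),
  (12273760425967094277, 9838188445411971345, 30746),
  (12564242601932491269, 9838188445411971345, 30746),
  (13853128606329078275, 3106963060475731695937127685, 2064415),
  (13853198975073387011, 3106963060475731695937127685, 6784519),
  (13997252590497956355, 3106963060475731695937127685, 2064415),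
  (13997322959242265091, 3106963060475731695937127685, 6784519),
  (14720071534597898755, 49711408967611707132467610885, 8028506),
  (14864195518766776835, 49711408967611707132467610885, 8028506),
  (15369225433019974155, 74923773365493798692493657008303604025524467722591877256192435920701620921765, 8193858),
  (15513349417188852235, 40868315844862450070203789939642467867230772774518053796218545581029720761765, 8193858),
  (16165449955233499655, 173475961550103391854963382513123344705, 125829146),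
  (16600056115367774727, 173475961550103391854963382513123344705, 125829146),
  (16886034691705801223, 53377218938493351339988733082476888385, 125829146),
  (17032392883502320135, 53377218938493351339988733082476888385, 125829146)]

/-- The code of an involution of the list. -/
def ivC (i : ℕ) : ℕ := (ivs.getD i (0, 0, 0)).1

/-- Its fixed set. -/
def ivM (i : ℕ) : ℕ := (ivs.getD i (0, 0, 0)).2.1

/-- Commuting involutions. -/
def ivK (i j : ℕ) : Bool := (ivs.getD i (0, 0, 0)).2.2.testBit j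

/-- The number of the bits below 256. -/
def cnt (m : ℕ) : ℕ := ((List.range 256).filter fun v => m.testBit v).length

theorem ivs_cover : (sylX.items.all fun e => Nat.beq e.1 idc || !(Nat.beq (mulc e.1 e.1) idc) ||
    !(allBelow 27 fun i => !(Nat.beq (ivC i) e.1))) = true := by decide +kernel

theorem ivs_mask : (allBelow 27 fun i => allBelow 256 fun v =>
    (ivM i).testBit v || !(Nat.beq (ap8 (ivC i) v) v)) = true := by decide +kernel

theorem ivs_comm : (allBelow 27 fun i => allBelow 27 fun j =>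
    ivK i j || !(Nat.beq (mulc (ivC i) (ivC j)) (mulc (ivC j) (ivC i)))) = true := by decide +kernel

theorem ivs_one : (allBelow 27 fun i => Nat.blt (cnt (ivM i)) 65) = true := by decide +kernel

theorem ivs_two : (allBelow 27 fun i => allBelow i fun j =>
    !(ivK i j) || Nat.blt (cnt (ivM i &&& ivM j)) 33) = true := by decide +kernel

theorem ivs_three : (allBelow 27 fun i => allBelow i fun j => allBelow j fun k =>
    !(ivK i j) || !(ivK i k) || !(ivK j k) || Nat.beq (ivC k) (mulc (ivC i) (ivC j)) ||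
    (Nat.blt (cnt (ivM i &&& ivM j &&& ivM k)) 17 && allBelow 27 fun l =>
      !(ivK l i) || !(ivK l j) || !(ivK l k) ||
      Nat.beq (ivC l) (ivC i) || Nat.beq (ivC l) (ivC j) || Nat.beq (ivC l) (ivC k) ||
      Nat.beq (ivC l) (mulc (ivC i) (ivC j)) || Nat.beq (ivC l) (mulc (ivC i) (ivC k)) ||
      Nat.beq (ivC l) (mulc (ivC j) (ivC k)) ||
      Nat.beq (ivC l) (mulc (ivC i) (mulc (ivC j) (ivC k))))) = true := by decide +kernel

/-- The common fixed vectors. -/
abbrev FixA (A : Subgroup O) : Type := {v : V // ∀ o ∈ A, o.1 v = v}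

theorem card_fixA_le (A : Subgroup O) (m : ℕ)
    (h : ∀ v, v < 256 → (∀ o ∈ A, o.1 (dc v) = dc v) → m.testBit v = true) :
    Nat.card (FixA A) ≤ cnt m := by
  refine le_trans (Nat.card_le_card_of_injective
    (fun v : FixA A => (⟨(cd v.1).val, ?_⟩ : {n // n ∈ ((List.range 256).filter fun v => m.testBit v).toFinset}))
    fun a b e => ?_) ?_
  · rw [List.mem_toFinset, List.mem_filter]
    exact ⟨List.mem_range.2 (cd v.1).2, h _ (cd v.1).2 (by rw [dc_cd]; exact v.2)⟩
  · refine Subtype.ext ?_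
    rw [← dc_cd a.1, ← dc_cd b.1, show (cd a.1).val = (cd b.1).val from congrArg Subtype.val e]
  · rw [Nat.card_eq_finsetCard]
    exact List.toFinset_card_le _

theorem card_le_of_subset (A : Subgroup O) (T : List O) (h : ∀ a ∈ A, a ∈ T) : Nat.card A ≤ T.length := by
  classical
  refine le_trans (Nat.card_le_card_of_injective (fun a : A => (⟨a.1, List.mem_toFinset.2 (h a.1 a.2)⟩ :
    {x // x ∈ T.toFinset})) fun a b e => Subtype.ext (congrArg (fun z => z.1) e :)) ?_
  rw [Nat.card_eq_finsetCard]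
  exact List.toFinset_card_le _

theorem no_offender_table {A : Subgroup O} (hA : A ≤ tgrp sylXGens) (he : ∀ a ∈ A, a * a = 1)
    (hne : A ≠ ⊥) : Nat.card A * Nat.card (FixA A) < 256 := by
  classical
  have hix : ∀ a ∈ A, a ≠ 1 → ∃ i, i < 27 ∧ Rep a (ivC i) := by
    intro a ha h1
    obtain ⟨e, hm, hre⟩ := tgrp_code sylX_ok (hA ha)
    have h := List.all_eq_true.1 ivs_cover e hm
    have hn : e.1 ≠ idc := fun h => h1 (hre.unique (h ▸ rep_one))
    have hs : mulc e.1 e.1 = idc := Rep.canon (hre.mul hre) (by rw [he a ha]; exact rep_one) (pk_col_wc [])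
    rw [hs, Nat.beq_refl, Bool.not_true, Bool.or_false, Bool.eq_false_iff.2 (fun e' => hn (Nat.eq_of_beq_eq_true e')),
      Bool.false_or, Bool.not_eq_true'] at h
    by_contra hno
    refine Bool.eq_false_iff.1 h (allBelow_eq_true.mpr fun i hi => ?_)
    rw [Bool.not_eq_true', Bool.eq_false_iff]
    intro e'
    exact hno ⟨i, hi, Nat.eq_of_beq_eq_true e' ▸ hre⟩
  have hcm : ∀ a ∈ A, ∀ b ∈ A, a * b = b * a := fun a ha b hb => by
    have h := inv_eq_of_mul_eq_one_right (he _ (A.mul_mem ha hb))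
    rw [mul_inv_rev, inv_eq_of_mul_eq_one_right (he a ha), inv_eq_of_mul_eq_one_right (he b hb)] at h
    exact h.symm
  have hK : ∀ {a b : O} {i j : ℕ}, a ∈ A → b ∈ A → i < 27 → j < 27 → Rep a (ivC i) → Rep b (ivC j) →
      ivK i j = true := by
    intro a b i j ha hb hi hj hra hrb
    have h := allBelow_eq_true.mp (allBelow_eq_true.mp ivs_comm i hi) j hj
    have e : mulc (ivC i) (ivC j) = mulc (ivC j) (ivC i) :=
      pk_congr fun n hn => by
        have h' := (hra.mul hrb).col_eq (hcm a ha b hb ▸ hrb.mul hra) hn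
        rwa [col_mulc _ _ hn, col_mulc _ _ hn] at h'
    rwa [e, Nat.beq_refl, Bool.not_true, Bool.or_false] at h
  have hM : ∀ {a : O} {i : ℕ}, a ∈ A → i < 27 → Rep a (ivC i) →
      ∀ v, v < 256 → (∀ o ∈ A, o.1 (dc v) = dc v) → (ivM i).testBit v = true := by
    intro a i ha hi hra v hv hfix
    have h := allBelow_eq_true.mp (allBelow_eq_true.mp ivs_mask i hi) v hv
    rwa [(hra.fix_iff hv).1 (hfix a ha), Nat.beq_refl, Bool.not_true, Bool.or_false] at h
  have two : ∀ {a b : O} {i j : ℕ}, a ∈ A → b ∈ A → i < 27 → j < i → Rep a (ivC i) → Rep b (ivC j) →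
      Nat.card (FixA A) ≤ 32 := by
    intro a b i j ha hb hi hj hra hrb
    have h := allBelow_eq_true.mp (allBelow_eq_true.mp ivs_two i hi) j hj
    rw [hK ha hb hi (hj.trans hi) hra hrb, Bool.not_true, Bool.false_or, Nat.blt_eq] at h
    have hf := card_fixA_le A (ivM i &&& ivM j) fun v hv hfix => by
      rw [Nat.testBit_land, hM ha hi hra v hv hfix, hM hb (hj.trans hi) hrb v hv hfix, Bool.and_self]
    omega
  have three : ∀ {a b c : O} {i j k : ℕ}, a ∈ A → b ∈ A → c ∈ A → c ≠ a * b → i < 27 → j < i → k < j →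
      Rep a (ivC i) → Rep b (ivC j) → Rep c (ivC k) → Nat.card A ≤ 8 ∧ Nat.card (FixA A) ≤ 16 := by
    intro a b c i j k ha hb hc hcab hi hj hk hra hrb hrc
    have hj' := hj.trans hi
    have hk' := hk.trans hj'
    have h := allBelow_eq_true.mp (allBelow_eq_true.mp (allBelow_eq_true.mp ivs_three i hi) j hj) k hk
    have hkk : Nat.beq (ivC k) (mulc (ivC i) (ivC j)) = false := Bool.eq_false_iff.2 fun e =>
      hcab (hrc.unique ((Nat.eq_of_beq_eq_true e).symm ▸ hra.mul hrb))
    rw [hK ha hb hi hj' hra hrb, hK ha hc hi hk' hra hrc, hK hb hc hj' hk' hrb hrc, hkk,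
      Bool.not_true] at h
    simp only [Bool.false_or, Bool.and_eq_true, Nat.blt_eq] at h
    refine ⟨?_, ?_⟩
    · refine card_le_of_subset A [1, a, b, c, a * b, a * c, b * c, a * (b * c)] fun d hd => ?_
      by_cases hd1 : d = 1
      · rw [hd1]; exact List.mem_cons_self
      obtain ⟨l, hl, hrd⟩ := hix d hd hd1
      have h2 := allBelow_eq_true.mp h.2 l hl
      rw [hK hd ha hl hi hrd hra, hK hd hb hl hj' hrd hrb, hK hd hc hl hk' hrd hrc,
        Bool.not_true] at h2
      simp only [Bool.false_or, Bool.or_eq_true, Nat.beq_eq] at h2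
      simp only [List.mem_cons, List.not_mem_nil, or_false]
      rcases h2 with (((((e | e) | e) | e) | e) | e) | e <;> rw [e] at hrd
      · exact Or.inr (Or.inl (hrd.unique hra))
      · exact Or.inr (Or.inr (Or.inl (hrd.unique hrb)))
      · exact Or.inr (Or.inr (Or.inr (Or.inl (hrd.unique hrc))))
      · exact Or.inr (Or.inr (Or.inr (Or.inr (Or.inl (hrd.unique (hra.mul hrb))))))
      · exact Or.inr (Or.inr (Or.inr (Or.inr (Or.inr (Or.inl (hrd.unique (hra.mul hrc)))))))
      · exact Or.inr (Or.inr (Or.inr (Or.inr (Or.inr (Or.inr (Or.inl (hrd.unique (hrb.mul hrc))))))))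
      · exact Or.inr (Or.inr (Or.inr (Or.inr (Or.inr (Or.inr (Or.inr (hrd.unique (hra.mul (hrb.mul hrc)))))))))
    · have hf := card_fixA_le A (ivM i &&& ivM j &&& ivM k) fun v hv hfix => by
        rw [Nat.testBit_land, Nat.testBit_land, hM ha hi hra v hv hfix, hM hb hj' hrb v hv hfix,
          hM hc hk' hrc v hv hfix, Bool.and_self, Bool.and_self]
      omega
  obtain ⟨a, ha, ha1⟩ := A.bot_or_exists_ne_one.resolve_left hne
  obtain ⟨i, hi, hra⟩ := hix a ha ha1
  by_cases h2 : ∀ b ∈ A, b ∈ [1, a]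
  · have hc : Nat.card A ≤ 2 := card_le_of_subset A _ h2
    have hf := card_fixA_le A (ivM i) (hM ha hi hra)
    have := Nat.blt_eq.mp (allBelow_eq_true.mp ivs_one i hi)
    have hF : Nat.card (FixA A) ≤ 64 := by omega
    calc _ ≤ 2 * 64 := Nat.mul_le_mul hc hF
      _ < 256 := by norm_num
  push Not at h2
  obtain ⟨b, hb, hb'⟩ := h2
  simp only [List.mem_cons, List.not_mem_nil, or_false, not_or] at hb'
  obtain ⟨j, hj, hrb⟩ := hix b hb hb'.1
  have hij : i ≠ j := fun e => hb'.2 (hrb.unique (e ▸ hra))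
  have hF : Nat.card (FixA A) ≤ 32 := by
    rcases Nat.lt_or_gt_of_ne hij with h | h
    · exact two hb ha hj h hrb hra
    · exact two ha hb hi h hra hrb
  by_cases h4 : ∀ c ∈ A, c ∈ [1, a, b, a * b]
  · have hc : Nat.card A ≤ 4 := card_le_of_subset A _ h4
    calc _ ≤ 4 * 32 := Nat.mul_le_mul hc hF
      _ < 256 := by norm_num
  push Not at h4
  obtain ⟨c, hc, hc'⟩ := h4
  simp only [List.mem_cons, List.not_mem_nil, or_false, not_or] at hc'
  obtain ⟨k, hk, hrc⟩ := hix c hc hc'.1
  have hik : i ≠ k := fun e => hc'.2.1 (hrc.unique (e ▸ hra))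
  have hjk : j ≠ k := fun e => hc'.2.2.1 (hrc.unique (e ▸ hrb))
  have hba : c ≠ b * a := by rw [hcm b hb a ha]; exact hc'.2.2.2
  have hbc : a ≠ b * c := fun e => hba (by
    rw [e, ← mul_assoc, he b hb, one_mul])
  have hcb : a ≠ c * b := by rw [hcm c hc b hb]; exact hbc
  have hac : b ≠ a * c := fun e => hc'.2.2.2 (by rw [e, ← mul_assoc, he a ha, one_mul])
  have hca : b ≠ c * a := by rw [hcm c hc a ha]; exact hac
  obtain ⟨hA8, hF16⟩ : Nat.card A ≤ 8 ∧ Nat.card (FixA A) ≤ 16 := by
    rcases Nat.lt_or_gt_of_ne hij with x | x <;> rcases Nat.lt_or_gt_of_ne hik with y | y <;>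
      rcases Nat.lt_or_gt_of_ne hjk with z | z
    · exact three hc hb ha hcb hk z x hrc hrb hra
    · exact three hb hc ha hbc hj z y hrb hrc hra
    · omega
    · exact three hb ha hc hba hj x y hrb hra hrc
    · exact three hc ha hb hca hk y x hrc hra hrb
    · omega
    · exact three ha hc hb hac hi y z hra hrc hrb
    · exact three ha hb hc hc'.2.2.2 hi x z hra hrb hrc
  calc _ ≤ 8 * 16 := Nat.mul_le_mul hA8 hF16
    _ < 256 := by norm_num

theorem sylX_fix : (sylXGens.all fun g => Nat.beq (ap8 (wc g) 17) 17) = true := by decide +kernel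

theorem qn17 : qn 17 = true := by decide +kernel

/-- No elementary 2-group fixing a non-singular vector is an offender. -/
theorem no_offender {A : Subgroup O} {x : V} (hx : qP 4 x = 1) (hA : A ≤ sp6) (hAx : A ≤ fixX x)
    (he : ∀ a ∈ A, a * a = 1) (hne : A ≠ ⊥) : Nat.card A * Nat.card (FixA A) < 256 := by
  obtain ⟨g, hg, hgx⟩ := exists_between (G := sp6) u4_le_sp6 hx ((q_one_iff (by norm_num)).2 qn17)
  let S : Subgroup O := sp6 ⊓ fixX (dc 17)
  have hX : tgrp sylXGens ≤ S := by
    refine le_inf (tgrp_le_sp6 _) ?_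
    rw [tgrp, Subgroup.closure_le]
    rintro _ ⟨w, hw, rfl⟩
    show (wO w).1 (dc 17) = dc 17
    rw [rep_ap _ (by norm_num), Nat.eq_of_beq_eq_true (List.all_eq_true.1 sylX_fix w hw)]
  have hS : ¬ 2 ^ (6 + 1) ∣ Nat.card S := by
    have h := card_eq_stab (G := sp6) u4_le_sp6 (x := dc 17) ((q_one_iff (by norm_num)).2 qn17)
    rw [card_sp6] at h
    intro hd
    have h' : Nat.card ↥(sp6 ⊓ fixX (dc 17)) = 12096 := by omega
    rw [show Nat.card S = 12096 from h'] at hd
    exact absurd hd (by norm_num)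
  let B := A.map (MulAut.conj g).toMonoidHom
  have hB : B ≤ S := by
    rintro _ ⟨a, ha, rfl⟩
    refine ⟨sp6.mul_mem (sp6.mul_mem hg (hA ha)) (sp6.inv_mem hg), ?_⟩
    show (g * a * g⁻¹).1 (dc 17) = dc 17
    rw [← hgx, ← oG_mul_apply, inv_mul_cancel_right, oG_mul_apply, show a.1 x = x from hAx ha]
  have hBp : IsPGroup 2 B := fun ⟨b, hb⟩ => ⟨1, Subtype.ext (by
    obtain ⟨a, ha, rfl⟩ := hb
    show (g * a * g⁻¹) ^ 2 ^ 1 = 1
    rw [pow_one, pow_two, show g * a * g⁻¹ * (g * a * g⁻¹) = g * (a * a) * g⁻¹ by group, he a ha, mul_one,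
      mul_inv_cancel])⟩
  obtain ⟨k, -, hk⟩ := conj_into hX (by rw [card_tgrp sylX_ok, table_lengths.2.2.1]; norm_num) hS hB hBp
  let C := A.map (MulAut.conj (k * g)).toMonoidHom
  have hC : C ≤ tgrp sylXGens := by
    rintro _ ⟨a, ha, rfl⟩
    show k * g * a * (k * g)⁻¹ ∈ _
    rw [show k * g * a * (k * g)⁻¹ = k * (g * a * g⁻¹) * k⁻¹ by group]
    exact hk _ ⟨a, ha, rfl⟩
  have hCe : ∀ c ∈ C, c * c = 1 := by
    rintro _ ⟨a, ha, rfl⟩
    rw [← map_mul, he a ha, map_one]
  have hCne : C ≠ ⊥ := fun e => hne ((Subgroup.map_eq_bot_iff_of_injective A (MulAut.conj (k * g)).injective).1 e)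
  have h := no_offender_table hC hCe hCne
  have e1 : Nat.card C = Nat.card A := Subgroup.card_map_of_injective (MulAut.conj (k * g)).injective
  have e2 : Nat.card (FixA A) = Nat.card (FixA C) := Nat.card_congr (Equiv.subtypeEquiv (k * g).1.toEquiv
    fun v => by
      constructor
      · rintro hv _ ⟨a, ha, rfl⟩
        show (k * g * a * (k * g)⁻¹).1 ((k * g).1 v) = (k * g).1 v
        rw [← oG_mul_apply, inv_mul_cancel_right, oG_mul_apply, hv a ha]
      · intro hv a ha
        refine (k * g).1.injective ?_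
        have h' : (k * g * a * (k * g)⁻¹).1 ((k * g).1 v) = (k * g).1 v := hv _ ⟨a, ha, rfl⟩
        rwa [← oG_mul_apply, inv_mul_cancel_right, oG_mul_apply] at h')
  rwa [e1, ← e2] at h

/-! ## Perps of pairs -/

/-- The candidate moving the two dual directions by `p` and `q`. -/
def cand (v w p q x : ℕ) : ℕ := (x ^^^ cond (Bn v x) p 0) ^^^ cond (Bn w x) q 0

/-- A candidate is no isometry or does not normalise the transvections. -/
noncomputable def candBad (v w p q : ℕ) : Bool :=
  !(allBelow 256 fun x => qn (cand v w p q x) == qn x) ||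
    allBelow 64 fun b => !(allBelow 8 fun i =>
      Nat.beq (cand v w p q (ap8 (tc 1) (1 <<< i))) (ap8 (tc b) (cand v w p q (1 <<< i))))

/-- The check of a pair. -/
noncomputable def pairCheck (v w : ℕ) : Bool :=
  (allBelow 256 fun y => [0, v, w, v ^^^ w].any (Nat.beq y) ||
    !(allBelow 256 fun u => Bn v u || Bn w u || !(Bn y u))) &&
  !(allBelow 256 fun u => !(Bn v u) || Bn w u) && !(allBelow 256 fun u => Bn v u || !(Bn w u)) &&
  [0, v, w, v ^^^ w].all fun p => [0, v, w, v ^^^ w].all fun q =>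
    (Nat.beq p 0 && Nat.beq q 0) || candBad v w p q

theorem exists_of_not_all {n : ℕ} {f : ℕ → Bool} (h : (!(allBelow n f)) = true) :
    ∃ u, u < n ∧ f u = false := by
  rw [Bool.not_eq_true'] at h
  by_contra hno
  refine Bool.eq_false_iff.1 h (allBelow_eq_true.mpr fun u hu => ?_)
  by_contra e
  exact hno ⟨u, hu, Bool.eq_false_iff.2 e⟩

theorem bz_one : bz true = 1 := rfl

theorem bz_not : bz false = 0 := rfl

/-- The pointwise stabiliser of the perp of a checked pair is trivial. -/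
theorem pair_rigid {v w : ℕ} (hv : v < 256) (hw : w < 256) (hc : pairCheck v w = true) {o : O}
    (ho : o ∈ sp6) (hf : ∀ u, Bp (dc v) u = 0 → Bp (dc w) u = 0 → o.1 u = u) : o = 1 := by
  simp only [pairCheck, Bool.and_eq_true] at hc
  obtain ⟨⟨⟨hspan, hxv⟩, hxw⟩, hcand⟩ := hc
  obtain ⟨a, ha, ha'⟩ := exists_of_not_all hxv
  obtain ⟨b, hb, hb'⟩ := exists_of_not_all hxw
  simp only [Bool.or_eq_false_iff, Bool.not_eq_false'] at ha' hb'
  have hmove : ∀ x, ∃ p ∈ [0, v, w, v ^^^ w], o.1 (dc x) + dc x = dc p := by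
    intro x
    obtain ⟨y, hy⟩ := dc_surj (o.1 (dc x) + dc x)
    have h := allBelow_eq_true.mp hspan y.val y.2
    rw [Bool.or_eq_true] at h
    rcases h with h | h
    · obtain ⟨p, hp, e⟩ := List.any_eq_true.1 h
      exact ⟨p, hp, by rw [← Nat.eq_of_beq_eq_true e, hy]⟩
    · exfalso
      obtain ⟨u, hu, e⟩ := exists_of_not_all h
      simp only [Bool.or_eq_false_iff, Bool.not_eq_false'] at e
      have hu0 : o.1 (dc u) = dc u := hf _ (by rw [Bp_dc hv hu, e.1.1, bz_not]) (by rw [Bp_dc hw hu, e.1.2, bz_not])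
      have h1 : Bp (dc y.val) (dc u) = 1 := by rw [Bp_dc y.2 hu, e.2, bz_one]
      rw [hy, Bp_add_left] at h1
      nth_rw 1 [← hu0] at h1
      rw [Bp_map, ← Bp_add_left, v_add_self, Bp_zero_left] at h1
      exact absurd h1 (by decide)
  obtain ⟨p, hp, hpa⟩ := hmove a
  obtain ⟨q, hq, hqb⟩ := hmove b
  have hoc : ∀ x, x < 256 → o.1 (dc x) = dc (cand v w p q x) := by
    intro x hx
    let u : V := dc x + bz (Bn v x) • dc a + bz (Bn w x) • dc b
    have hu : o.1 u = u := by
      refine hf u ?_ ?_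
      · simp only [u, Bp_add_right, Bp_smul_right, Bp_dc hv hx, Bp_dc hv ha, Bp_dc hv hb, ha'.1, hb'.1]
        cases Bn v x <;> cases Bn w x <;> decide
      · simp only [u, Bp_add_right, Bp_smul_right, Bp_dc hw hx, Bp_dc hw ha, Bp_dc hw hb, ha'.2, hb'.2]
        cases Bn v x <;> cases Bn w x <;> decide
    have hoa : o.1 (dc a) = dc a + dc p := by
      rw [← hpa, add_comm (o.1 (dc a)), ← add_assoc, v_add_self, zero_add]
    have hob : o.1 (dc b) = dc b + dc q := by
      rw [← hqb, add_comm (o.1 (dc b)), ← add_assoc, v_add_self, zero_add]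
    simp only [u, map_add] at hu
    rw [cand, dc_xor, dc_xor]
    cases h1 : Bn v x <;> cases h2 : Bn w x <;>
      simp only [h1, h2, bz_one, bz_not, zero_smul, one_smul, map_zero, add_zero, hoa, hob, cond_true,
        cond_false, dc_zero] at hu ⊢
    · exact hu
    · linear_combination (norm := skip) hu
      abel_nf
      simp [two_smul, v_add_self]
    · linear_combination (norm := skip) hu
      abel_nf
      simp [two_smul, v_add_self]
    · linear_combination (norm := skip) hu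
      abel_nf
      simp [two_smul, v_add_self]
  have hclt : ∀ x, x < 256 → cand v w p q x < 256 := by
    intro x hx
    have hs : ∀ r ∈ [0, v, w, v ^^^ w], r < 256 := by
      intro r hr
      simp only [List.mem_cons, List.not_mem_nil, or_false] at hr
      rcases hr with rfl | rfl | rfl | rfl
      exacts [by norm_num, hv, hw, CoOneType.xor_lt hv hw]
    refine CoOneType.xor_lt (CoOneType.xor_lt hx ?_) ?_
    · cases Bn v x
      exacts [Nat.succ_pos 255, hs p hp]
    · cases Bn w x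
      exacts [Nat.succ_pos 255, hs q hq]
  have h := List.all_eq_true.1 (List.all_eq_true.1 hcand p hp) q hq
  rw [Bool.or_eq_true] at h
  rcases h with h | h
  · simp only [Bool.and_eq_true, Nat.beq_eq] at h
    obtain ⟨rfl, rfl⟩ := h
    refine o_ext fun n hn => ?_
    rw [hoc _ (shl_lt hn), oG_one_apply]
    simp only [cand]
    cases Bn v (1 <<< n) <;> cases Bn w (1 <<< n) <;> simp
  · exfalso
    simp only [candBad, Bool.or_eq_true] at h
    rcases h with h | h
    · obtain ⟨x, hx, e⟩ := exists_of_not_all h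
      refine Bool.eq_false_iff.1 e (beq_iff_eq.2 (bz_inj _ _ ?_))
      rw [← q_dc (hclt x hx), ← q_dc hx, ← hoc x hx, q_map]
    · obtain ⟨B, hB⟩ := exists_rel ho
      let c : Fin 64 := apF B 1
      have hrel : o * tO 1 * o⁻¹ = tO c := hB 1
      obtain ⟨i, hi, e⟩ := exists_of_not_all (allBelow_eq_true.mp h c.val c.2)
      refine Bool.eq_false_iff.1 e ?_
      rw [Nat.beq_eq]
      have h1 : tOn 1 = tO 1 := by rw [tOn, dif_pos (by norm_num)]; rfl
      have h2 : tOn c.val = tO c := by rw [tOn, dif_pos c.2]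
      refine dc_inj (hclt _ (ap8_lt _ _)) (ap8_lt _ _) ?_
      rw [← hoc _ (ap8_lt _ _), ← (rep_tOn 1).apply (shl_lt hi), ← (rep_tOn c.val).apply (hclt _ (shl_lt hi)),
        ← hoc _ (shl_lt hi), h1, h2, ← oG_mul_apply, ← oG_mul_apply, ← hrel, inv_mul_cancel_right]

theorem hyper_check : (hyperW.all fun h => uw h.2 && Nat.blt h.1 256 &&
    (let c := wc h.2
     let v' := ap8 c h.1
     !(Nat.beq v' 0) && !(Nat.beq v' h.1) && Nat.beq (ap8 c v') (h.1 ^^^ v') &&
       Nat.beq (wc (h.2 ++ (h.2 ++ h.2))) idc && !(Nat.beq c idc) &&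
       !(allBelow 256 fun u => Nat.beq u 0 || !(Nat.beq (ap8 c u) u)) && pairCheck h.1 v')) = true := by
  decide +kernel

theorem hyper_reps : (hyperW.any (fun h => Nat.beq h.1 17) && hyperW.any fun h => Nat.beq h.1 1) = true := by
  decide +kernel

theorem plane_check : (allBelow 256 fun w => !(qn w) || !(qn (17 ^^^ w)) || pairCheck 17 w) = true := by
  decide +kernel

theorem orbitSing_check : (orbitSing.all uw && allBelow 256 fun v => Nat.beq v 0 || qn v ||
    orbitSing.any fun w => Nat.beq (ap8 (wc w) 1) v) = true := by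
  decide +kernel

/-- The facts used for hyperplanes. -/
theorem hyper (hG : G = u4 ∨ G = sp6) {v : V} (hv : v ≠ 0) :
    ∃ e ∈ G, ∃ v', v' ≠ 0 ∧ v' ≠ v ∧ e ^ 3 = 1 ∧ e ≠ 1 ∧ e.1 v = v' ∧ e.1 v' = v + v' ∧
      (∃ k, k ≠ 0 ∧ e.1 k = k) ∧
      ∀ o ∈ G, (∀ u, Bp v u = 0 → Bp v' u = 0 → o.1 u = u) → o = 1 := by
  suffices ∃ n g, g ∈ u4 ∧ g.1 (dc n) = v ∧ ∃ h ∈ hyperW, h.1 = n by
    obtain ⟨n, g, hg, hgv, h, hh, rfl⟩ := this
    have hc := List.all_eq_true.1 hyper_check h hh
    simp only [Bool.and_eq_true, Nat.blt_eq, Nat.beq_eq] at hc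
    obtain ⟨⟨hu, hn⟩, ⟨⟨⟨⟨⟨h0, hne⟩, hadd⟩, h3⟩, h1⟩, hk⟩, hp⟩ := hc
    have hgG : g ∈ G := u4_le hG hg
    have hf : (wO h.2).1 (dc h.1) = dc (ap8 (wc h.2) h.1) := rep_ap _ hn
    refine ⟨g * wO h.2 * g⁻¹, G.mul_mem (G.mul_mem hgG (u4_le hG (wO_mem_u4 _ hu))) (G.inv_mem hgG),
      g.1 (dc (ap8 (wc h.2) h.1)), fun e => ?_, fun e => ?_, ?_, fun e => ?_, ?_, ?_, ?_, ?_⟩
    · rw [Bool.not_eq_true', Bool.eq_false_iff] at h0
      refine h0 ?_
      rw [Nat.beq_eq]
      exact dc_inj (ap8_lt _ _) (by norm_num) (g.1.injective (by rw [e, dc_zero, map_zero]))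
    · rw [Bool.not_eq_true', Bool.eq_false_iff] at hne
      refine hne ?_
      rw [Nat.beq_eq]
      exact dc_inj (ap8_lt _ _) hn (g.1.injective (e.trans hgv.symm))
    · have e := wO_eq (u := h.2 ++ (h.2 ++ h.2)) (w := []) h3
      rw [wO_append, wO_append, wO_nil] at e
      have : (g * wO h.2 * g⁻¹) ^ 3 = g * (wO h.2 * (wO h.2 * wO h.2)) * g⁻¹ := by
        simp only [pow_succ, pow_zero, one_mul]; group
      rw [this, e, mul_one, mul_inv_cancel]
    · rw [mul_inv_eq_one, mul_eq_left] at e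
      rw [Bool.not_eq_true', Bool.eq_false_iff] at h1
      exact h1 (Nat.beq_eq.mpr (wc_eq (u := h.2) (w := []) e))
    · rw [← hgv, ← oG_mul_apply, inv_mul_cancel_right, oG_mul_apply, hf]
    · rw [← oG_mul_apply, inv_mul_cancel_right, oG_mul_apply, rep_ap _ (ap8_lt _ _), hadd, dc_xor,
        map_add, hgv]
    · obtain ⟨k, hk', e⟩ := exists_of_not_all hk
      simp only [Bool.or_eq_false_iff, Bool.not_eq_false', Nat.beq_eq] at e
      refine ⟨g.1 (dc k), fun e' => ?_, ?_⟩
      · have : k = 0 := dc_inj hk' (by norm_num) (g.1.injective (by rw [e', dc_zero, map_zero]))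
        rw [this, Nat.beq_refl] at e
        exact absurd e.1 (by simp)
      · rw [← oG_mul_apply, inv_mul_cancel_right, oG_mul_apply, rep_ap _ hk', e.2]
    · intro o ho hfix
      have h1 : g⁻¹ * o * g = 1 := pair_rigid hn (ap8_lt _ _) hp
        (sp6.mul_mem (sp6.mul_mem (sp6.inv_mem (u4_le_sp6 hg)) (le_sp6 hG ho)) (u4_le_sp6 hg))
        fun u hu hu' => by
          have hb := hfix (g.1 u) (by rw [← hgv, Bp_map]; exact hu) (by rw [Bp_map]; exact hu')
          rw [oG_mul_apply, oG_mul_apply, hb, ← oG_mul_apply, inv_mul_cancel, oG_one_apply]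
      rw [mul_assoc, inv_mul_eq_one] at h1
      exact mul_eq_right.1 h1.symm
  obtain ⟨i, rfl⟩ := dc_surj v
  have hr := hyper_reps
  simp only [Bool.and_eq_true, List.any_eq_true, Nat.beq_eq] at hr
  obtain ⟨⟨h17, hm17, e17⟩, h1, hm1, e1⟩ := hr
  cases hq : qn i.val
  · have hs := orbitSing_check
    rw [Bool.and_eq_true] at hs
    have h2 := allBelow_eq_true.mp hs.2 i.val i.2
    have hi0 : Nat.beq i.val 0 = false := Bool.eq_false_iff.2 fun e => hv (by
      rw [Nat.eq_of_beq_eq_true e, dc_zero])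
    rw [hq, hi0, Bool.false_or, Bool.false_or] at h2
    obtain ⟨w, hw, e⟩ := List.any_eq_true.1 h2
    exact ⟨1, wO w, wO_mem_u4 w (List.all_eq_true.1 hs.1 w hw),
      by rw [rep_ap _ (by norm_num), Nat.eq_of_beq_eq_true e], h1, hm1, e1⟩
  · obtain ⟨g, hg, hgv⟩ := exists_to ((q_one_iff i.2).2 hq)
    exact ⟨17, g, hg, hgv, h17, hm17, e17⟩

/-- The facts used for planes. -/
theorem plane (hG : G = u4 ∨ G = sp6) {w₁ w₂ : V} (h₁ : qP 4 w₁ = 1) (h₂ : qP 4 w₂ = 1)
    (h₃ : qP 4 (w₁ + w₂) = 1) {o : O} (ho : o ∈ G)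
    (hf : ∀ u, Bp w₁ u = 0 → Bp w₂ u = 0 → o.1 u = u) : o = 1 := by
  obtain ⟨g, hg, rfl⟩ := exists_to h₁
  obtain ⟨i, hi⟩ := dc_surj ((g⁻¹).1 w₂)
  have hw : w₂ = g.1 (dc i.val) := by rw [hi, ← oG_mul_apply, mul_inv_cancel, oG_one_apply]
  subst hw
  rw [q_map, q_one_iff i.2] at h₂
  rw [← map_add, ← dc_xor, q_map, q_one_iff (CoOneType.xor_lt (by norm_num) i.2)] at h₃
  have hc := allBelow_eq_true.mp plane_check i.val i.2
  rw [h₂, h₃, Bool.not_true, Bool.false_or, Bool.false_or] at hc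
  have h1 : g⁻¹ * o * g = 1 := pair_rigid (by norm_num) i.2 hc
    (sp6.mul_mem (sp6.mul_mem (sp6.inv_mem (u4_le_sp6 hg)) (le_sp6 hG ho)) (u4_le_sp6 hg))
    fun u hu hu' => by
      have hb := hf (g.1 u) (by rw [Bp_map]; exact hu) (by rw [Bp_map]; exact hu')
      rw [oG_mul_apply, oG_mul_apply, hb, ← oG_mul_apply, inv_mul_cancel, oG_one_apply]
  rw [mul_assoc, inv_mul_eq_one] at h1
  exact mul_eq_right.1 h1.symm

theorem gen_check : (allBelow 256 fun v => !(allBelow 256 fun y => !(qn y) || Bn v y)) = true := by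
  decide +kernel

theorem gen (v : V) : ∃ y, qP 4 y = 1 ∧ Bp v y = 0 := by
  obtain ⟨i, rfl⟩ := dc_surj v
  obtain ⟨y, hy, e⟩ := exists_of_not_all (allBelow_eq_true.mp gen_check i.val i.2)
  simp only [Bool.or_eq_false_iff, Bool.not_eq_false'] at e
  exact ⟨dc y, (q_one_iff hy).2 e.1, by rw [Bp_dc i.2 hy, e.2, bz_not]⟩

theorem card_stab_three (hG : G = u4 ∨ G = sp6) {x : V} (hx : qP 4 x = 1) :
    3 ∣ Nat.card ↥(G ⊓ fixX x) := by
  have h9 : 9 ∣ Nat.card G := by
    have h := Subgroup.card_dvd_of_le ((tgrp_le_u4 gens_uw.2).trans (u4_le hG))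
    rwa [card_tgrp nine_ok, table_lengths.2.2.2] at h
  rw [card_eq_stab (u4_le hG) hx] at h9
  omega

end Cfsg.Agent.Co2ThreeC
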