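import Cfsg.Agent.Co2ThreeC.Main
import Cfsg.Agent.Co2ThreeC.Facts

/-!
The module stage: the configuration from the data on `C(t) / ⟨t⟩`.
-/

set_option autoImplicit false

open Cfsg.Agent.ThreeTrans.OrthCohom Cfsg.Agent.CoOneType Cfsg.Agent.CoTwoType Cfsg.Agent.Classical.Quad
  QuadraticMap
open Cfsg.Agent.CoTwoThree (qMinus u4 CTData CTStmt)
open Cfsg.Agent.TwoClassClosed (Rigid)

namespace Cfsg.Agent.Co2ThreeC

universe u

/-- The space of the codes. -/
noncomputable def spinSpace : Space V where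
  q := qP 4
  B := polarBilin (qP 4)
  q_add := fun x y => CoOneType.q_add x y
  nd := fun x h => nondegP4.1 x h

theorem spinSpace_q (x : V) : spinSpace.q x = qP 4 x := rfl

theorem spinSpace_B (x y : V) : spinSpace.B x y = Bp x y := rfl

variable {M : Type u} [Group M] (D : CTData M)

/-- The coordinates. -/
def emb (v : V) : M := D.co (Multiplicative.ofAdd v)

theorem emb_add (a b : V) : emb D (a + b) = emb D a * emb D b := by
  rw [emb, ofAdd_add, map_mul]; rfl

theorem emb_inj : Function.Injective (emb D) := fun _ _ h => Multiplicative.ofAdd.injective (D.co_inj h)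

theorem emb_mem (v : V) : emb D v ∈ D.L := D.co_le ⟨_, rfl⟩

theorem emb_zero : emb D 0 = 1 := by rw [emb, ofAdd_zero, map_one]

theorem emb_sq (v : V) : emb D v * emb D v = 1 := by rw [← emb_add, v_add_self, emb_zero]

theorem emb_inv (v : V) : (emb D v)⁻¹ = emb D v := inv_eq_of_mul_eq_one_right (emb_sq D v)

theorem act_emb {l : M} (hl : l ∈ D.L) (v : V) :
    l * emb D v * l⁻¹ = emb D ((D.act ⟨l, hl⟩).1 v) := D.act_co ⟨l, hl⟩ v

theorem emb_comm (a b : V) : Commute (emb D a) (emb D b) := by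
  show emb D a * emb D b = emb D b * emb D a
  rw [← emb_add, ← emb_add, add_comm]

theorem commute_iff {l : M} (hl : l ∈ D.L) (v : V) :
    Commute l (emb D v) ↔ (D.act ⟨l, hl⟩).1 v = v := by
  rw [← (emb_inj D).eq_iff, ← act_emb D hl, mul_inv_eq_iff_eq_mul]
  rfl

theorem act_of_emb (v : V) : D.act ⟨emb D v, emb_mem D v⟩ = 1 :=
  ext_oG fun x => ((commute_iff D (emb_mem D v) x).1 (emb_comm D v x)).trans (oG_one_apply x).symm

theorem ker_emb {l : M} (hl : l ∈ D.L) (h : D.act ⟨l, hl⟩ = 1) : ∃ w, l = emb D w := by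
  obtain ⟨w, hw⟩ := D.act_ker ⟨l, hl⟩ h
  exact ⟨Multiplicative.toAdd w, hw.symm⟩

theorem range_cases : D.act.range = u4 ∨ D.act.range = sp6 := D.act_range

theorem act_mem {l : M} (hl : l ∈ D.L) : D.act ⟨l, hl⟩ ∈ D.act.range := ⟨_, rfl⟩

theorem card_V : Nat.card V = 256 := by
  rw [Nat.card_eq_fintype_card, Fintype.card_fun]
  rfl

theorem card_ker : Nat.card D.act.ker = 256 := by
  rw [← card_V]
  refine (Nat.card_congr (Equiv.ofBijective (fun v => (⟨⟨emb D v, emb_mem D v⟩, act_of_emb D v⟩ : D.act.ker))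
    ⟨fun a b e => emb_inj D (congrArg (fun z => z.1.1) e :), ?_⟩)).symm
  rintro ⟨⟨l, hl⟩, hk⟩
  obtain ⟨w, hw⟩ := ker_emb D hl hk
  exact ⟨w, Subtype.ext (Subtype.ext hw.symm)⟩

theorem card_comap {H : Subgroup O} (hH : H ≤ D.act.range) :
    Nat.card (H.comap D.act) = 256 * Nat.card H := by
  have h := Subgroup.card_mul_index (D.act.comp (H.comap D.act).subtype).ker
  rw [Subgroup.index_ker, MonoidHom.range_comp, Subgroup.range_subtype,
    Subgroup.map_comap_eq_self hH] at h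
  rw [← h, ← card_ker D]
  congr 1
  exact Nat.card_congr
    { toFun := fun x => ⟨x.1.1, x.2⟩
      invFun := fun y => ⟨⟨y.1, by
        rw [Subgroup.mem_comap, show D.act y.1 = 1 from y.2]; exact H.one_mem⟩, y.2⟩
      left_inv := fun _ => rfl
      right_inv := fun _ => rfl }

theorem card_cent {x : V} :
    Nat.card ↥(D.L ⊓ Subgroup.centralizer ({emb D x} : Set M)) =
      256 * Nat.card ↥(D.act.range ⊓ fixX x) := by
  rw [← card_comap D inf_le_left]
  exact Nat.card_congr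
    { toFun := fun l => ⟨⟨l.1, l.2.1⟩, ⟨_, rfl⟩,
        (commute_iff D l.2.1 x).1 (Subgroup.mem_centralizer_singleton_iff.1 l.2.2)⟩
      invFun := fun l => ⟨l.1.1, l.1.2,
        Subgroup.mem_centralizer_singleton_iff.2 ((commute_iff D l.1.2 x).2 l.2.2)⟩
      left_inv := fun _ => rfl
      right_inv := fun _ => rfl }

/-- A lift of an element of order three. -/
theorem lift_three {l : M} (hl : l ∈ D.L) (h3 : D.act ⟨l, hl⟩ ^ 3 = 1) (h1 : D.act ⟨l, hl⟩ ≠ 1) :
    (l ^ 4) ^ 3 = 1 ∧ l ^ 4 ≠ 1 ∧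
      D.act ⟨l ^ 4, D.L.pow_mem hl 4⟩ = D.act ⟨l, hl⟩ := by
  have e4 : D.act ⟨l ^ 4, D.L.pow_mem hl 4⟩ = D.act ⟨l, hl⟩ := by
    rw [show (⟨l ^ 4, D.L.pow_mem hl 4⟩ : D.L) = ⟨l, hl⟩ ^ 4 from rfl, map_pow, pow_succ, h3, one_mul]
  obtain ⟨w, hw⟩ := ker_emb D (D.L.pow_mem hl 3)
    (by rw [show (⟨l ^ 3, D.L.pow_mem hl 3⟩ : D.L) = ⟨l, hl⟩ ^ 3 from rfl, map_pow, h3])
  refine ⟨?_, fun e => h1 ?_, e4⟩
  · rw [← pow_mul, show 4 * 3 = 3 * 4 from rfl, pow_mul, hw, show (4 : ℕ) = 2 * 2 from rfl, pow_mul,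
      pow_two (emb D w), emb_sq, one_pow]
  · rw [← e4, show (⟨l ^ 4, D.L.pow_mem hl 4⟩ : D.L) = 1 from Subtype.ext e, map_one]

section involution

variable {j : M} (hj : j ∈ D.L) (hj2 : j * j = 1) (hjn : ∀ w, j ≠ emb D w)

include hj2 in
theorem act_sq : D.act ⟨j, hj⟩ * D.act ⟨j, hj⟩ = 1 := by
  rw [← map_mul, show (⟨j, hj⟩ : D.L) * ⟨j, hj⟩ = 1 from Subtype.ext hj2, map_one]

include hjn in
theorem act_ne : D.act ⟨j, hj⟩ ≠ 1 := fun h => by
  obtain ⟨w, hw⟩ := ker_emb D hj h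
  exact hjn w hw

include hj2 in
theorem kinds_j (hjn : ∀ w, j ≠ emb D w) :
    KindA D.act.range (D.act ⟨j, hj⟩) ∨ KindB D.act.range (D.act ⟨j, hj⟩) :=
  kinds (range_cases D) (act_mem D hj) (act_sq D hj hj2) (act_ne D hj hjn)

include hj2 in
theorem conj_lift {l : M} (hl : l ∈ D.L) (hc : Commute (D.act ⟨l, hl⟩) (D.act ⟨j, hj⟩)) :
    ∃ c, (D.act ⟨j, hj⟩).1 c = c ∧ l * j * l⁻¹ = j * emb D c := by
  have hm : j⁻¹ * (l * j * l⁻¹) ∈ D.L := D.L.mul_mem (D.L.inv_mem hj)
    (D.L.mul_mem (D.L.mul_mem hl hj) (D.L.inv_mem hl))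
  obtain ⟨c, hc'⟩ := ker_emb D hm (by
    rw [show (⟨j⁻¹ * (l * j * l⁻¹), hm⟩ : D.L) = ⟨j, hj⟩⁻¹ * (⟨l, hl⟩ * ⟨j, hj⟩ * ⟨l, hl⟩⁻¹) from rfl,
      map_mul, map_inv, map_mul, map_mul, map_inv, hc.eq, mul_inv_cancel_right, inv_mul_cancel])
  have e : l * j * l⁻¹ = j * emb D c := by rw [← hc', mul_inv_cancel_left]
  refine ⟨c, (commute_iff D hj c).1 ?_, e⟩
  have hsq : j * emb D c * (j * emb D c) = 1 := by
    rw [← e, show l * j * l⁻¹ * (l * j * l⁻¹) = l * (j * j) * l⁻¹ by group, hj2, mul_one, mul_inv_cancel]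
  have h2 := inv_eq_of_mul_eq_one_right hsq
  rw [mul_inv_rev, emb_inv, inv_eq_of_mul_eq_one_right hj2] at h2
  exact h2.symm

include hj2 in
theorem commuting_three (hA : KindA D.act.range (D.act ⟨j, hj⟩)) :
    ∃ e ∈ D.L, e ^ 3 = 1 ∧ e ≠ 1 ∧ Commute e j := by
  obtain ⟨hdis, f, ⟨⟨l, hl⟩, rfl⟩, h3, h1, hc⟩ := hA
  obtain ⟨c, hcf, hlj⟩ := conj_lift D hj hj2 hl hc
  obtain ⟨u, hu⟩ := hdis c hcf
  have h' : emb D u * j * emb D u = j * emb D c := by
    rw [← hu, emb_add, ← act_emb D hj, inv_eq_of_mul_eq_one_right hj2,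
      show j * (j * emb D u * j * emb D u) = j * j * (emb D u * j * emb D u) by simp only [mul_assoc],
      hj2, one_mul]
  have hml : emb D u * l ∈ D.L := D.L.mul_mem (emb_mem D u) hl
  have hact : D.act ⟨emb D u * l, hml⟩ = D.act ⟨l, hl⟩ := by
    rw [show (⟨emb D u * l, hml⟩ : D.L) = ⟨emb D u, emb_mem D u⟩ * ⟨l, hl⟩ from rfl, map_mul, act_of_emb,
      one_mul]
  have hcom : Commute (emb D u * l) j := by
    refine mul_inv_eq_iff_eq_mul.1 ?_
    rw [show emb D u * l * j * (emb D u * l)⁻¹ = emb D u * (l * j * l⁻¹) * (emb D u)⁻¹ by group, hlj, ← h',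
      emb_inv, show emb D u * (emb D u * j * emb D u) * emb D u = emb D u * emb D u * j * (emb D u * emb D u) by
        simp only [mul_assoc], emb_sq, one_mul, mul_one]
  obtain ⟨p3, p1, -⟩ := lift_three D hml (by rw [hact]; exact h3) (by rw [hact]; exact h1)
  exact ⟨(emb D u * l) ^ 4, D.L.pow_mem hml 4, p3, p1, hcom.pow_left 4⟩

include hj2 in
theorem big_two [Finite M] (hB : KindB D.act.range (D.act ⟨j, hj⟩))
    (hno : ¬ ∃ e ∈ D.L, e ^ 3 = 1 ∧ e ≠ 1 ∧ Commute e j) {x : V} (hx : qP 4 x = 1) :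
    ∃ P : Subgroup M, P ≤ D.L ∧ IsPGroup 2 P ∧ (∀ p ∈ P, Commute p j) ∧
      ¬ Nat.card P ∣ Nat.card ↥(D.L ⊓ Subgroup.centralizer ({emb D x} : Set M)) := by
  classical
  haveI : Fact (Nat.Prime 2) := ⟨Nat.prime_two⟩
  haveI : Fact (Nat.Prime 3) := ⟨Nat.prime_three⟩
  obtain ⟨hfix, -, h9, a, ha, htop⟩ := hB
  set r := D.act ⟨j, hj⟩ with hr
  let C := centG D.act.range r
  let X : Subgroup D.L := C.comap D.act
  let J : D.L := ⟨j, hj⟩
  let N : Subgroup D.L := Subgroup.centralizer ({J} : Set D.L)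
  have hX : Nat.card X = 256 * Nat.card C := card_comap D inf_le_left
  have hNX : N ≤ X := fun l hl => Subgroup.mem_comap.2 ⟨⟨l, rfl⟩, Subgroup.mem_centralizer_singleton_iff.2
    (by rw [hr, ← map_mul, ← map_mul, Subgroup.mem_centralizer_singleton_iff.1 hl])⟩
  letI inst : MulAction X D.L :=
    { smul := fun l m => l.1 * m * l.1⁻¹
      one_smul := fun m => by show (1 : D.L) * m * (1 : D.L)⁻¹ = m; group
      mul_smul := fun p q m => by
        show p.1 * q.1 * m * (p.1 * q.1)⁻¹ = p.1 * (q.1 * m * q.1⁻¹) * p.1⁻¹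
        group }
  have hst : Nat.card ↥(MulAction.stabilizer X J) = Nat.card N := Nat.card_congr
    { toFun := fun l => ⟨l.1.1, Subgroup.mem_centralizer_singleton_iff.2 (mul_inv_eq_iff_eq_mul.1 l.2)⟩
      invFun := fun l => ⟨⟨l.1, hNX l.2⟩, mul_inv_eq_iff_eq_mul.2 (Subgroup.mem_centralizer_singleton_iff.1 l.2)⟩
      left_inv := fun _ => rfl
      right_inv := fun _ => rfl }
  have horb : (MulAction.orbit X J).ncard ≤ 64 := by
    refine le_trans (Set.ncard_le_ncard (t := (fun c : V => J * ⟨emb D c, emb_mem D c⟩) '' {c | r.1 c = c}) ?_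
      (Set.toFinite _)) ((Set.ncard_image_le (Set.toFinite _)).trans ?_)
    · rintro _ ⟨l, rfl⟩
      obtain ⟨c, hc, e⟩ := conj_lift D hj hj2 l.1.2
        (Subgroup.mem_centralizer_singleton_iff.1 (Subgroup.mem_comap.1 l.2).2)
      exact ⟨c, hc, Subtype.ext e.symm⟩
    · rw [← Nat.card_coe_set_eq]
      exact hfix.le
  -- the kernel of the centraliser of `j` is the image of the fixed vectors
  let φ : N →* O := D.act.comp N.subtype
  have hker : Nat.card φ.ker = 64 := by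
    rw [← hfix]
    exact (Nat.card_congr (Equiv.ofBijective
      (fun v : {v : V // r.1 v = v} => (⟨⟨⟨emb D v.1, emb_mem D v.1⟩, Subgroup.mem_centralizer_singleton_iff.2
        (Subtype.ext ((commute_iff D hj v.1).2 v.2).symm)⟩, act_of_emb D v.1⟩ : φ.ker))
      ⟨fun p q e => Subtype.ext (emb_inj D (congrArg (fun z => z.1.1.1) e :)), by
        rintro ⟨⟨⟨l, hl⟩, hn⟩, hk⟩
        obtain ⟨w, rfl⟩ := ker_emb D hl hk
        exact ⟨⟨w, (commute_iff D hj w).1 (congrArg Subtype.val (Subgroup.mem_centralizer_singleton_iff.1 hn)).symm⟩,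
          rfl⟩⟩)).symm
  have hN : Nat.card N ∣ 64 * Nat.card C := by
    have h := φ.ker.card_mul_index
    rw [Subgroup.index_ker, hker] at h
    rw [← h]
    refine Nat.mul_dvd_mul_left 64 (Subgroup.card_dvd_of_le ?_)
    rintro _ ⟨l, rfl⟩
    exact Subgroup.mem_comap.1 (hNX l.2)
  have hoN : Nat.card N * (MulAction.orbit X J).ncard = 256 * Nat.card C := by
    have h := (MulAction.stabilizer X J).card_mul_index
    rwa [MulAction.index_stabilizer, hst, hX] at h
  have hN3 : ¬ 3 ∣ Nat.card N := fun h => by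
    obtain ⟨g, hg⟩ := exists_prime_orderOf_dvd_card' 3 h
    refine hno ⟨g.1.1, g.1.2, ?_, fun e => ?_,
      congrArg Subtype.val (Subgroup.mem_centralizer_singleton_iff.1 g.2)⟩
    · have h' := congrArg (fun z : N => z.1.1) (hg ▸ pow_orderOf_eq_one g)
      simpa using h'
    · rw [show g = 1 from Subtype.ext (Subtype.ext e), orderOf_one] at hg
      exact absurd hg (by norm_num)
  obtain ⟨k, hk⟩ := hN
  have hNpos : 0 < Nat.card N := Nat.card_pos
  have ho4 : (MulAction.orbit X J).ncard = 4 * k := by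
    refine Nat.eq_of_mul_eq_mul_left hNpos ?_
    calc _ = 256 * Nat.card C := hoN
      _ = 4 * (64 * Nat.card C) := by ring
      _ = _ := by rw [hk]; ring
  have hopos : 0 < (MulAction.orbit X J).ncard := by
    have : 0 < Nat.card C := Nat.card_pos
    by_contra h0
    rw [show (MulAction.orbit X J).ncard = 0 by omega, mul_zero] at hoN
    omega
  have h9o : 9 ∣ (MulAction.orbit X J).ncard := by
    refine (Nat.Coprime.dvd_mul_left (m := Nat.card N) ?_).1 (hoN ▸ h9.mul_left 256)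
    exact Nat.Coprime.pow_left 2 ((Nat.prime_three.coprime_iff_not_dvd).2 hN3)
  have ho : (MulAction.orbit X J).ncard = 36 := by omega
  rw [ho] at hoN
  have h2 : 2 ^ (a + 6) ∣ Nat.card N := by
    refine (Nat.Coprime.dvd_mul_left (k := 2 ^ (a + 6)) (m := 9) ?_).1 ?_
    · exact Nat.Coprime.pow_left _ (by norm_num)
    · have h4 : 4 * (9 * Nat.card N) = 4 * (64 * Nat.card C) := by omega
      rw [Nat.eq_of_mul_eq_mul_left (by norm_num) h4, pow_add, mul_comm]
      exact Nat.mul_dvd_mul (by norm_num) ha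
  obtain ⟨P, hP⟩ := Sylow.exists_subgroup_card_pow_prime 2 h2
  have hPc : Nat.card ((P.map N.subtype).map D.L.subtype) = 2 ^ (a + 6) := by
    rw [Subgroup.card_map_of_injective D.L.subtype_injective,
      Subgroup.card_map_of_injective N.subtype_injective, hP]
  refine ⟨(P.map N.subtype).map D.L.subtype, ?_, IsPGroup.of_card hPc, ?_, fun hd => htop ?_⟩
  · rintro _ ⟨l, -, rfl⟩
    exact l.2
  · rintro _ ⟨_, ⟨l, -, rfl⟩, rfl⟩
    exact congrArg Subtype.val (Subgroup.mem_centralizer_singleton_iff.1 l.2)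
  · rw [hPc, card_cent D] at hd
    obtain ⟨m, hm⟩ := hd
    have hs := card_eq_stab (u4_le (range_cases D)) hx
    refine ⟨15 * m, ?_⟩
    have e : 8 * Nat.card ↥(D.act.range ⊓ fixX x) = 2 ^ (a + 1) * m := by
      refine Nat.eq_of_mul_eq_mul_left (show 0 < 32 by norm_num) ?_
      calc _ = 256 * Nat.card ↥(D.act.range ⊓ fixX x) := by ring
        _ = 2 ^ (a + 6) * m := hm
        _ = _ := by rw [pow_add, pow_add]; ring
    calc Nat.card ↥D.act.range = 15 * (8 * Nat.card ↥(D.act.range ⊓ fixX x)) := by rw [hs]; ring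
      _ = _ := by rw [e]; ring

end involution

theorem weak_closed_E [Finite M] {x : V} (hx : qP 4 x = 1) {E : Subgroup M} (hE : E ≤ D.L)
    (hc : Nat.card E = Nat.card V) (h2 : ∀ a ∈ E, a * a = 1) (hxE : emb D x ∈ E) :
    ∀ a ∈ E, ∃ w, a = emb D w := by
  have hcm : ∀ a ∈ E, ∀ b ∈ E, a * b = b * a := fun a ha b hb => by
    have h := inv_eq_of_mul_eq_one_right (h2 _ (E.mul_mem ha hb))
    rw [mul_inv_rev, inv_eq_of_mul_eq_one_right (h2 a ha), inv_eq_of_mul_eq_one_right (h2 b hb)] at h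
    exact h.symm
  let φ : E →* O := D.act.comp (Subgroup.inclusion hE)
  intro a ha
  refine ker_emb D (hE ha) ?_
  by_contra hne
  have hA1 : φ.range ≠ ⊥ := fun h => hne ((Subgroup.eq_bot_iff_forall _).1 h _ ⟨⟨a, ha⟩, rfl⟩)
  have hsp : φ.range ≤ sp6 := by
    rintro _ ⟨l, rfl⟩
    exact le_sp6 (range_cases D) ⟨_, rfl⟩
  have hfx : φ.range ≤ fixX x := by
    rintro _ ⟨⟨l, hl⟩, rfl⟩
    exact (commute_iff D (hE hl) x).1 (hcm l hl _ hxE)
  have hsq : ∀ b ∈ φ.range, b * b = 1 := by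
    rintro _ ⟨⟨l, hl⟩, rfl⟩
    rw [← map_mul, show (⟨l, hl⟩ : E) * ⟨l, hl⟩ = 1 from Subtype.ext (h2 l hl), map_one]
  have hlt := no_offender hx hsp hfx hsq hA1
  have hker : Nat.card φ.ker ≤ Nat.card (FixA φ.range) := by
    have hk : ∀ l : φ.ker, ∃ w : FixA φ.range, l.1.1 = emb D w.1 := by
      rintro ⟨⟨l, hl⟩, hk⟩
      obtain ⟨w, rfl⟩ := ker_emb D (hE hl) hk
      refine ⟨⟨w, ?_⟩, rfl⟩
      rintro _ ⟨⟨b, hb⟩, rfl⟩
      exact (commute_iff D (hE hb) w).1 (hcm b hb _ hl)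
    choose f hf using hk
    exact Nat.card_le_card_of_injective f fun p q e =>
      Subtype.ext (Subtype.ext (by rw [hf p, hf q, e]))
  have h := φ.ker.card_mul_index
  rw [Subgroup.index_ker, hc, card_V] at h
  have hmul := Nat.mul_le_mul_right (Nat.card φ.range) hker
  rw [h, mul_comm] at hmul
  omega

theorem conf [Finite M] : Conf D.L spinSpace (emb D) where
  hom := emb_add D
  inj := emb_inj D
  mem := emb_mem D
  act := fun l hl => ⟨fun v => (D.act ⟨l, hl⟩).1 v, act_emb D hl, fun v => q_map _ v⟩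
  norm := fun g hg => by
    choose f hf using hg
    have hinj : Function.Injective f := fun a b e => emb_inj D (by
      have h : g * emb D a * g⁻¹ = g * emb D b * g⁻¹ := by rw [hf, hf, e]
      exact mul_left_cancel (mul_right_cancel h))
    have hsurj : Function.Surjective f := Finite.surjective_of_injective hinj
    refine D.normalizer_le (Subgroup.mem_normalizer_iff.2 fun n => ⟨?_, ?_⟩)
    · rintro ⟨v, rfl⟩
      exact ⟨Multiplicative.ofAdd (f v.toAdd), (hf v.toAdd).symm⟩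
    · rintro ⟨v, hv⟩
      obtain ⟨u, hu⟩ := hsurj v.toAdd
      refine ⟨Multiplicative.ofAdd u, mul_left_cancel (a := g) (mul_right_cancel (b := g⁻¹) ?_)⟩
      show g * emb D u * g⁻¹ = g * n * g⁻¹
      rw [hf, hu]
      exact hv
  cent := fun l hl hc => ker_emb D hl (ext_oG fun v =>
    ((commute_iff D hl v).1 (hc v)).trans (oG_one_apply v).symm)
  three := fun e he h3 h1 v hv hc => D.three e he h3 h1
    ⟨emb D v, ⟨_, rfl⟩, fun h => hv (emb_inj D (h.trans (emb_zero D).symm)), hc⟩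
  weak := fun x hx E hE hc h2 hxE => weak_closed_E D hx hE hc h2 hxE
  div3 := fun x hx => by
    rw [card_cent D]
    exact (card_stab_three (range_cases D) hx).mul_left 256
  big := fun j hj hj2 hjn => by
    rcases kinds_j D hj hj2 hjn with hA | hB
    · exact Or.inl (commuting_three D hj hj2 hA)
    · by_cases he : ∃ e ∈ D.L, e ^ 3 = 1 ∧ e ≠ 1 ∧ Commute e j
      · exact Or.inl he
      · exact Or.inr fun x hx => big_two D hj hj2 hB he hx
  fixed := fun j hj hj2 hjn => by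
    rcases kinds_j D hj hj2 hjn with hA | ⟨-, ⟨x, hx, hxf⟩, -⟩
    · exact Or.inr (commuting_three D hj hj2 hA)
    · exact Or.inl ⟨x, hx, (commute_iff D hj x).2 hxf⟩
  gen := fun v => gen v
  sing := ⟨dc 1, fun h => absurd (dc_inj (by norm_num) (by norm_num) (h.trans dc_zero.symm)) (by norm_num), by
    show qP 4 (dc 1) = 0
    rw [q_dc (by norm_num), show qn 1 = false by decide +kernel]
    rfl⟩
  hyper := fun v hv => by
    obtain ⟨f, ⟨⟨l, hl⟩, rfl⟩, v', h0, hne, h3, h1, hv1, hv2, ⟨k, hk0, hk⟩, hp⟩ := hyper (range_cases D) hv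
    obtain ⟨p3, p1, pe⟩ := lift_three D hl h3 h1
    have hm := D.L.pow_mem hl 4
    refine ⟨l ^ 4, hm, v', h0, hne, ?_, p3, ?_, ?_, fun m hmL hm' => ?_⟩
    · refine D.three _ hm p3 p1 ⟨emb D k, ⟨_, rfl⟩, fun h => hk0 (emb_inj D (h.trans (emb_zero D).symm)), ?_⟩
      exact (commute_iff D hm k).2 (by rw [pe]; exact hk)
    · rw [act_emb D hm, pe, hv1]
    · rw [act_emb D hm, pe, hv2]
    · exact ker_emb D hmL (hp _ (act_mem D hmL) fun u hu hu' => (commute_iff D hmL u).1 (hm' u hu hu'))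
  plane := fun w₁ w₂ h₁ h₂ h₃ l hl hc => ker_emb D hl
    (plane (range_cases D) h₁ h₂ h₃ (act_mem D hl) fun u hu hu' => (commute_iff D hl u).1 (hc u hu hu'))

/-- **The module stage of the recognition from an element of order three.** -/
theorem ctStmt : CTStmt.{u} := fun _ _ _ D => (conf D).eq_top

end Cfsg.Agent.Co2ThreeC
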