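import Cfsg.Agent.CoTwoUniq.Cent.Spin
import Cfsg.Agent.CoTwoThree.Defs

/-!
Packed codes of the spin images: the eight images of the basis in one number, products of
transvections as products of codes, and tables of subgroups.
-/

set_option autoImplicit false
set_option maxRecDepth 100000

open Cfsg.Agent.CoOneType Cfsg.Agent.CoTwoType Cfsg.Agent.Classical.Quad Cfsg.Agent.Compute
open Cfsg.Agent.CoTwoUniq.Cent (tO tO_dc o_ext shl_lt tO_sq tO_mem tO_zero)
open Cfsg.Agent.CoTwoThree (qMinus u4)

namespace Cfsg.Agent.Co2ThreeC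

/-- The image of the bit `i`. -/
def col (c i : ℕ) : ℕ := c / 256 ^ i % 256

/-- The image of a vector. -/
def ap8 (c v : ℕ) : ℕ :=
  ((cond (v.testBit 0) (col c 0) 0 ^^^ cond (v.testBit 1) (col c 1) 0) ^^^
    (cond (v.testBit 2) (col c 2) 0 ^^^ cond (v.testBit 3) (col c 3) 0)) ^^^
  ((cond (v.testBit 4) (col c 4) 0 ^^^ cond (v.testBit 5) (col c 5) 0) ^^^
    (cond (v.testBit 6) (col c 6) 0 ^^^ cond (v.testBit 7) (col c 7) 0))

/-- Packing. -/
def pk (f : ℕ → ℕ) : ℕ :=
  f 0 + 256 * (f 1 + 256 * (f 2 + 256 * (f 3 + 256 * (f 4 + 256 * (f 5 + 256 * (f 6 + 256 * f 7))))))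

/-- The code of the identity. -/
def idc : ℕ := 9241421688590303745

/-- The code of a product. -/
def mulc (a b : ℕ) : ℕ := pk fun i => ap8 a (col b i)

/-- The codes of the transvections. -/
def tcL : List ℕ :=
  [9241421688590303745,
  13853125299204260355,
  11551768297431370245,
  16163471908045326855,
  9241421688860852865,
  13853125299474809475,
  11551768297701919365,
  16163471908315875975,
  9277450623115330305,
  4647732545138983170,
  11587797231956396805,
  6958079153980049670,
  9277450623385879425,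
  4647732545409532290,
  11587797232226945925,
  6958079154250598790,
  9241562700990185985,
  13853266311604142595,
  2310487621240948740,
  6922191231854905350,
  9241562701260735105,
  13853266311874691715,
  2310487621511497860,
  6922191232125454470,
  9277591635515212545,
  4647873557538865410,
  2346516555765975300,
  16199641854970235655,
  9277591635785761665,
  4647873557809414530,
  2346516556036524420,
  16199641855240784775,
  9314046664987902465,
  13925750275601859075,
  11624393273828968965,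
  16236096884442925575,
  72624976668147840,
  4684328587282104450,
  2382971585509214340,
  6994675196123170950,
  9350075599512929025,
  4720357521536581890,
  11660422208353995525,
  7030704130377648390,
  108653911193174400,
  13961779210397434755,
  2419000520034240900,
  16272125819238501255,
  9314187677387784705,
  13925891288001741315,
  2383112597638547460,
  6994816208252504070,
  72765989068030080,
  4684469599681986690,
  11624534286499400325,
  16236237897113356935,
  9350216611912811265,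
  4720498533936464130,
  2419141532163574020,
  16272266831367834375,
  108794923593056640,
  13961920222797316995,
  11660563221024426885,
  7030845143048079750]

/-- The code of a transvection. -/
def tc (a : ℕ) : ℕ := tcL.getD a idc

/-- The code of a word. -/
def wc : List ℕ → ℕ
  | [] => idc
  | a :: w => mulc (tc a) (wc w)

theorem col_lt (c i : ℕ) : col c i < 256 := Nat.mod_lt _ (by norm_num)

theorem cond_lt (b : Bool) (c i : ℕ) : cond b (col c i) 0 < 256 := by
  cases b
  · exact Nat.succ_pos 255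
  · exact col_lt c i

theorem ap8_lt (c v : ℕ) : ap8 c v < 256 :=
  CoOneType.xor_lt
    (CoOneType.xor_lt (CoOneType.xor_lt (cond_lt _ _ _) (cond_lt _ _ _))
      (CoOneType.xor_lt (cond_lt _ _ _) (cond_lt _ _ _)))
    (CoOneType.xor_lt (CoOneType.xor_lt (cond_lt _ _ _) (cond_lt _ _ _))
      (CoOneType.xor_lt (cond_lt _ _ _) (cond_lt _ _ _)))

theorem col_pk {f : ℕ → ℕ} (hf : ∀ i, f i < 256) {i : ℕ} (hi : i < 8) : col (pk f) i = f i := by
  have h0 := hf 0
  have h1 := hf 1
  have h2 := hf 2
  have h3 := hf 3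
  have h4 := hf 4
  have h5 := hf 5
  have h6 := hf 6
  have h7 := hf 7
  interval_cases i <;> simp only [col, pk] <;> omega

theorem col_mulc (a b : ℕ) {i : ℕ} (hi : i < 8) : col (mulc a b) i = ap8 a (col b i) :=
  col_pk (fun _ => ap8_lt _ _) hi

theorem pk_congr {f g : ℕ → ℕ} (h : ∀ i, i < 8 → f i = g i) : pk f = pk g := by
  simp only [pk, h 0 (by norm_num), h 1 (by norm_num), h 2 (by norm_num), h 3 (by norm_num),
    h 4 (by norm_num), h 5 (by norm_num), h 6 (by norm_num), h 7 (by norm_num)]

theorem pk_col_wc (w : List ℕ) : pk (col (wc w)) = wc w := by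
  cases w with
  | nil => decide +kernel
  | cons a w => exact pk_congr fun i hi => col_mulc _ _ hi

/-- The isometry has this code. -/
def Rep (o : O) (c : ℕ) : Prop := ∀ i, i < 8 → o.1 (dc (1 <<< i)) = dc (col c i)

theorem split8 : (allBelow 256 fun v => Nat.beq v
    (((cond (v.testBit 0) (1 <<< 0) 0 ^^^ cond (v.testBit 1) (1 <<< 1) 0) ^^^
      (cond (v.testBit 2) (1 <<< 2) 0 ^^^ cond (v.testBit 3) (1 <<< 3) 0)) ^^^
     ((cond (v.testBit 4) (1 <<< 4) 0 ^^^ cond (v.testBit 5) (1 <<< 5) 0) ^^^
      (cond (v.testBit 6) (1 <<< 6) 0 ^^^ cond (v.testBit 7) (1 <<< 7) 0)))) = true := by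
  decide +kernel

namespace Rep

variable {o p : O} {a b : ℕ}

theorem apply (h : Rep o a) {v : ℕ} (hv : v < 256) : o.1 (dc v) = dc (ap8 a v) := by
  have hc : ∀ (s : Bool) (i : ℕ), i < 8 →
      o.1 (dc (cond s (1 <<< i) 0)) = dc (cond s (col a i) 0) := fun s i hi => by
    cases s
    · rw [cond_false, cond_false, dc_zero, map_zero]
    · exact h i hi
  conv_lhs => rw [Nat.eq_of_beq_eq_true (allBelow_eq_true.mp split8 v hv)]
  simp only [ap8, dc_xor, map_add]
  rw [hc _ 0 (by norm_num), hc _ 1 (by norm_num), hc _ 2 (by norm_num), hc _ 3 (by norm_num),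
    hc _ 4 (by norm_num), hc _ 5 (by norm_num), hc _ 6 (by norm_num), hc _ 7 (by norm_num)]

theorem mul (ho : Rep o a) (hp : Rep p b) : Rep (o * p) (mulc a b) := fun i hi => by
  rw [oG_mul_apply, hp i hi, ho.apply (col_lt _ _), col_mulc _ _ hi]

theorem unique (ho : Rep o a) (hp : Rep p a) : o = p :=
  o_ext fun i hi => (ho i hi).trans (hp i hi).symm

theorem col_eq (ho : Rep o a) (hp : Rep o b) {i : ℕ} (hi : i < 8) : col a i = col b i :=
  dc_inj (col_lt _ _) (col_lt _ _) ((ho i hi).symm.trans (hp i hi))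

theorem fix_iff (ho : Rep o a) {v : ℕ} (hv : v < 256) : o.1 (dc v) = dc v ↔ ap8 a v = v := by
  rw [ho.apply hv]
  exact ⟨dc_inj (ap8_lt _ _) hv, fun e => by rw [e]⟩

end Rep

/-- A transvection by a number. -/
noncomputable def tOn (a : ℕ) : O := if h : a < 64 then tO ⟨a, h⟩ else 1

/-- The isometry of a word. -/
noncomputable def wO : List ℕ → O
  | [] => 1
  | a :: w => tOn a * wO w

theorem tc_check : (allBelow 64 fun a => allBelow 8 fun i =>
    Nat.beq (col (tc a) i) (tn a (1 <<< i))) = true := by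
  decide +kernel

theorem idc_check : (allBelow 8 fun i => Nat.beq (col idc i) (1 <<< i)) = true := by decide +kernel

theorem rep_one : Rep 1 idc := fun i hi => by
  rw [Nat.eq_of_beq_eq_true (allBelow_eq_true.mp idc_check i hi)]; rfl

theorem rep_tOn (a : ℕ) : Rep (tOn a) (tc a) := by
  by_cases ha : a < 64
  · intro i hi
    rw [tOn, dif_pos ha, tO_dc _ (shl_lt hi),
      Nat.eq_of_beq_eq_true (allBelow_eq_true.mp (allBelow_eq_true.mp tc_check a ha) i hi)]
  · have hn : tcL.length = 64 := rfl
    rw [tOn, dif_neg ha, tc, List.getD_eq_default _ _ (by omega)]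
    exact rep_one

theorem rep_wO : ∀ w : List ℕ, Rep (wO w) (wc w)
  | [] => rep_one
  | a :: w => (rep_tOn a).mul (rep_wO w)

theorem wO_eq {u w : List ℕ} (h : wc u = wc w) : wO u = wO w :=
  (rep_wO u).unique (h ▸ rep_wO w)

theorem wc_eq {u w : List ℕ} (h : wO u = wO w) : wc u = wc w := by
  rw [← pk_col_wc u, ← pk_col_wc w]
  exact pk_congr fun i hi => (rep_wO u).col_eq (h ▸ rep_wO w) hi

theorem wO_nil : wO [] = 1 := rfl

theorem wO_append : ∀ u w : List ℕ, wO (u ++ w) = wO u * wO w
  | [], w => (one_mul _).symm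
  | a :: u, w => by
    show tOn a * wO (u ++ w) = tOn a * wO u * wO w
    rw [wO_append u w, mul_assoc]

theorem tOn_sq (a : ℕ) : tOn a * tOn a = 1 := by
  rw [tOn]
  split_ifs
  · exact tO_sq _
  · exact one_mul _

theorem wO_reverse : ∀ w : List ℕ, wO w.reverse = (wO w)⁻¹
  | [] => inv_one.symm
  | a :: w => by
    rw [List.reverse_cons, wO_append, wO_reverse w]
    show _ * (tOn a * 1) = (tOn a * wO w)⁻¹
    rw [mul_one, mul_inv_rev, inv_eq_of_mul_eq_one_right (tOn_sq a)]

theorem tOn_mem_sp6 (a : ℕ) : tOn a ∈ sp6 := by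
  rw [tOn]
  split_ifs
  · exact tO_mem _
  · exact one_mem _

theorem wO_mem_sp6 : ∀ w : List ℕ, wO w ∈ sp6
  | [] => one_mem _
  | a :: w => mul_mem (tOn_mem_sp6 a) (wO_mem_sp6 w)

/-- A word in the thirty-six centres. -/
def uw (w : List ℕ) : Bool := w.all fun a => Nat.blt a 64 && qMinus a

theorem tO_mem_u4 {a : Fin 64} (h : qMinus a.val = true) : tO a ∈ u4 :=
  Subgroup.subset_closure ⟨a, h, fun v => tO_dc a v.2⟩

theorem wO_mem_u4 : ∀ w : List ℕ, uw w = true → wO w ∈ u4
  | [], _ => one_mem _
  | a :: w, h => by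
    simp only [uw, List.all_cons, Bool.and_eq_true, Nat.blt_eq] at h
    refine mul_mem ?_ (wO_mem_u4 w h.2)
    rw [tOn, dif_pos h.1.1]
    exact tO_mem_u4 h.1.2

/-- A search tree of words by their codes. -/
inductive Tr where
  | lf : Tr
  | nd (l : Tr) (k : ℕ) (w : List ℕ) (r : Tr) : Tr

/-- Search. -/
def Tr.find : Tr → ℕ → Bool
  | .lf, _ => false
  | .nd l k _ r, x => cond (Nat.beq x k) true (cond (Nat.blt x k) (l.find x) (r.find x))

/-- The entries in order. -/
def Tr.items : Tr → List (ℕ × List ℕ)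
  | .lf => []
  | .nd l k w r => l.items ++ (k, w) :: r.items

theorem Tr.find_mem : ∀ (t : Tr) {x : ℕ}, t.find x = true → ∃ w, (x, w) ∈ t.items
  | .lf, x, h => by simp [Tr.find] at h
  | .nd l k w r, x, h => by
    simp only [Tr.find] at h
    cases hk : Nat.beq x k
    · rw [hk, cond_false] at h
      cases hb : Nat.blt x k
      · rw [hb, cond_false] at h
        obtain ⟨v, hv⟩ := r.find_mem h
        exact ⟨v, List.mem_append_right _ (List.mem_cons_of_mem _ hv)⟩
      · rw [hb, cond_true] at h
        obtain ⟨v, hv⟩ := l.find_mem h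
        exact ⟨v, List.mem_append_left _ hv⟩
    · rw [Nat.eq_of_beq_eq_true hk]
      exact ⟨w, List.mem_append_right _ List.mem_cons_self⟩

/-- Strictly increasing. -/
def incr : List ℕ → Bool
  | [] => true
  | [_] => true
  | a :: b :: r => Nat.blt a b && incr (b :: r)

theorem incr_pairwise : ∀ l : List ℕ, incr l = true → l.Pairwise (· < ·)
  | [], _ => List.Pairwise.nil
  | [a], _ => List.pairwise_singleton _ a
  | a :: b :: r, h => by
    simp only [incr, Bool.and_eq_true, Nat.blt_eq] at h
    have ih := incr_pairwise (b :: r) h.2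
    refine List.Pairwise.cons (fun c hc => ?_) ih
    rcases List.mem_cons.1 hc with rfl | hc
    · exact h.1
    · exact h.1.trans ((List.pairwise_cons.1 ih).1 c hc)

/-- A concatenation of given words. -/
def isCat (gens : List (List ℕ)) : ℕ → List ℕ → Bool
  | 0, w => w.isEmpty
  | n + 1, w => w.isEmpty || gens.any fun g => g.isPrefixOf w && isCat gens n (w.drop g.length)

/-- The group of a list of words. -/
noncomputable def tgrp (gens : List (List ℕ)) : Subgroup O := Subgroup.closure (wO '' {g | g ∈ gens})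

theorem isCat_mem (gens : List (List ℕ)) :
    ∀ (n : ℕ) (w : List ℕ), isCat gens n w = true → wO w ∈ tgrp gens := by
  intro n
  induction n with
  | zero =>
    intro w h
    rw [isCat, List.isEmpty_iff] at h
    subst h
    exact one_mem _
  | succ n ih =>
    intro w h
    simp only [isCat, Bool.or_eq_true, List.isEmpty_iff, List.any_eq_true, Bool.and_eq_true,
      List.isPrefixOf_iff_prefix] at h
    rcases h with rfl | ⟨g, hg, hp, hr⟩
    · exact one_mem _
    · rw [← List.prefix_iff_eq_append.1 hp, wO_append]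
      exact mul_mem (Subgroup.subset_closure ⟨g, hg, rfl⟩) (ih _ hr)

/-- The table of a group. -/
def okT (gens : List (List ℕ)) (t : Tr) : Bool :=
  incr (t.items.map Prod.fst) &&
    (t.items.all fun e => Nat.beq (wc e.2) e.1 && isCat gens e.2.length e.2) &&
    t.find idc &&
    gens.all fun g => t.items.all fun e => t.find (mulc (wc g) e.1)

section table

variable {gens : List (List ℕ)} {t : Tr} (h : okT gens t = true)

include h

theorem okT_spec : (t.items.map Prod.fst).Pairwise (· < ·) ∧
    (∀ e ∈ t.items, wc e.2 = e.1 ∧ wO e.2 ∈ tgrp gens) ∧ t.find idc = true ∧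
    ∀ g ∈ gens, ∀ e ∈ t.items, t.find (mulc (wc g) e.1) = true := by
  simp only [okT, Bool.and_eq_true, List.all_eq_true] at h
  exact ⟨incr_pairwise _ h.1.1.1,
    fun e he => ⟨Nat.eq_of_beq_eq_true (h.1.1.2 e he).1, isCat_mem _ _ _ (h.1.1.2 e he).2⟩, h.1.2, h.2⟩

theorem rep_item {e : ℕ × List ℕ} (he : e ∈ t.items) : Rep (wO e.2) e.1 :=
  ((okT_spec h).2.1 e he).1 ▸ rep_wO e.2

theorem tgrp_mem {o : O} (ho : o ∈ tgrp gens) : ∃ e ∈ t.items, wO e.2 = o := by
  obtain ⟨-, -, hid, hcl⟩ := okT_spec h
  let S : Set O := {o | ∃ e ∈ t.items, wO e.2 = o}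
  have hS : S.Finite := Set.Finite.subset (t.items.map fun e => wO e.2).finite_toSet
    fun x ⟨e, he, ex⟩ => List.mem_map.2 ⟨e, he, ex⟩
  haveI := hS.to_subtype
  have h1 : (1 : O) ∈ S := by
    obtain ⟨w, hw⟩ := t.find_mem hid
    exact ⟨(idc, w), hw, (rep_item h hw).unique rep_one⟩
  have hg : ∀ g ∈ gens, ∀ s ∈ S, wO g * s ∈ S := by
    rintro g hg _ ⟨e, he, rfl⟩
    obtain ⟨w, hw⟩ := t.find_mem (hcl g hg e he)
    exact ⟨_, hw, (rep_item h hw).unique ((rep_wO g).mul (rep_item h he))⟩
  have hgi : ∀ g ∈ gens, ∀ s ∈ S, (wO g)⁻¹ * s ∈ S := by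
    intro g hg' s hs
    obtain ⟨⟨y, hy⟩, he⟩ := Finite.surjective_of_injective (f := fun x : S => (⟨wO g * x.1, hg g hg' x.1 x.2⟩ : S))
      (fun a b e => Subtype.ext (mul_left_cancel (congrArg Subtype.val e))) ⟨s, hs⟩
    have he' : wO g * y = s := congrArg Subtype.val he
    rwa [← he', inv_mul_cancel_left]
  suffices ∀ s ∈ S, o * s ∈ S by
    have h2 := this 1 h1
    rwa [mul_one] at h2
  unfold tgrp at ho
  induction ho using Subgroup.closure_induction'' with
  | one => intro s hs; rwa [one_mul]
  | mem x hx => obtain ⟨g, hg', rfl⟩ := hx; exact hg g hg'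
  | inv_mem x hx => obtain ⟨g, hg', rfl⟩ := hx; exact hgi g hg'
  | mul x y _ _ hx hy => intro s hs; rw [mul_assoc]; exact hx _ (hy _ hs)

theorem tgrp_code {o : O} (ho : o ∈ tgrp gens) : ∃ e ∈ t.items, Rep o e.1 := by
  obtain ⟨e, he, rfl⟩ := tgrp_mem h ho
  exact ⟨e, he, rep_item h he⟩

theorem card_tgrp : Nat.card (tgrp gens) = t.items.length := by
  classical
  obtain ⟨hp, hm, -, -⟩ := okT_spec h
  have hnd : (t.items.map fun e => wO e.2).Nodup := by
    have hp' := List.pairwise_map.1 hp
    refine List.pairwise_map.2 (hp'.imp_of_mem fun {a b} ha hb hlt heq => ?_)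
    have := wc_eq heq
    rw [(hm a ha).1, (hm b hb).1] at this
    omega
  have hs : (tgrp gens : Set O) = ↑(t.items.map fun e => wO e.2).toFinset := by
    ext o
    simp only [SetLike.mem_coe, List.coe_toFinset, List.mem_map, Set.mem_setOf_eq]
    exact ⟨fun ho => tgrp_mem h ho, fun ⟨e, he, e'⟩ => e' ▸ (hm e he).2⟩
  rw [← SetLike.coe_sort_coe, hs, Nat.card_coe_set_eq, Set.ncard_coe_finset,
    List.toFinset_card_of_nodup hnd, List.length_map]

end table

end Cfsg.Agent.Co2ThreeC
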