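import Cfsg.Agent.Co2ThreeC.Setup

/-!
Centralizers of all subgroups of `K` lie in `L`, and then `L` is the whole group.
-/

set_option autoImplicit false
set_option linter.unusedSectionVars false

namespace Cfsg.Agent.Co2ThreeC

open Subgroup TwoClassClosed

variable {M : Type*} [Group M]

/-- An involution acting without fixed points inverts. -/
theorem inverts [Finite M] {W : Subgroup M} {s : M} (hs : s * s = 1)
    (hn : ∀ z ∈ W, s * z * s⁻¹ ∈ W) (hf : ∀ z ∈ W, s * z * s⁻¹ = z → z = 1) :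
    ∀ z ∈ W, s * z * s⁻¹ = z⁻¹ := by
  have hsurj : Function.Surjective fun y : W =>
      (⟨(y : M)⁻¹ * (s * y * s⁻¹), W.mul_mem (W.inv_mem y.2) (hn y y.2)⟩ : W) := by
    refine Finite.surjective_of_injective fun a b e => ?_
    have e' : (a : M)⁻¹ * (s * a * s⁻¹) = (b : M)⁻¹ * (s * b * s⁻¹) := congrArg Subtype.val e
    have h1 := hf ((a : M) * (b : M)⁻¹) (W.mul_mem a.2 (W.inv_mem b.2)) (by
      calc s * ((a : M) * (b : M)⁻¹) * s⁻¹ = (a : M) * ((a : M)⁻¹ * (s * a * s⁻¹)) * (s * b * s⁻¹)⁻¹ := by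
            group
        _ = (a : M) * (b : M)⁻¹ := by rw [e']; group)
    exact Subtype.ext (mul_inv_eq_one.1 h1)
  intro z hz
  obtain ⟨y, hy⟩ := hsurj ⟨z, hz⟩
  have hy' : (y : M)⁻¹ * (s * y * s⁻¹) = z := congrArg Subtype.val hy
  rw [← hy', inv_eq_of_mul_eq_one_right hs]
  calc s * ((y : M)⁻¹ * (s * y * s)) * s = s * (y : M)⁻¹ * s * y * (s * s) := by group
    _ = s * (y : M)⁻¹ * s * y := by rw [hs, mul_one]
    _ = ((y : M)⁻¹ * (s * y * s))⁻¹ := by
      rw [mul_inv_rev, mul_inv_rev, mul_inv_rev, inv_eq_of_mul_eq_one_right hs, inv_inv]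
      simp [mul_assoc]

/-- An element of order three acting without fixed points: the three conjugates multiply to one. -/
theorem three_prod [Finite M] {W : Subgroup M} {e : M} (he : e ^ 3 = 1)
    (hn : ∀ z ∈ W, e * z * e⁻¹ ∈ W) (hf : ∀ z ∈ W, e * z * e⁻¹ = z → z = 1) :
    ∀ z ∈ W, z * (e * z * e⁻¹) * (e * (e * z * e⁻¹) * e⁻¹) = 1 := by
  have hsurj : Function.Surjective fun y : W =>
      (⟨(y : M)⁻¹ * (e * y * e⁻¹), W.mul_mem (W.inv_mem y.2) (hn y y.2)⟩ : W) := by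
    refine Finite.surjective_of_injective fun a b h => ?_
    have e' : (a : M)⁻¹ * (e * a * e⁻¹) = (b : M)⁻¹ * (e * b * e⁻¹) := congrArg Subtype.val h
    have h1 := hf ((a : M) * (b : M)⁻¹) (W.mul_mem a.2 (W.inv_mem b.2)) (by
      calc e * ((a : M) * (b : M)⁻¹) * e⁻¹ = (a : M) * ((a : M)⁻¹ * (e * a * e⁻¹)) * (e * b * e⁻¹)⁻¹ := by
            group
        _ = (a : M) * (b : M)⁻¹ := by rw [e']; group)
    exact Subtype.ext (mul_inv_eq_one.1 h1)
  intro z hz
  obtain ⟨y, hy⟩ := hsurj ⟨z, hz⟩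
  have hy' : (y : M)⁻¹ * (e * y * e⁻¹) = z := congrArg Subtype.val hy
  rw [← hy']
  calc _ = (y : M)⁻¹ * (e ^ 3 * y * (e ^ 3)⁻¹) := by simp only [pow_succ, pow_zero, one_mul]; group
    _ = 1 := by rw [he]; group

variable {L : Subgroup M} {V : Type*} [AddCommGroup V] [Module (ZMod 2) V] {S : Space V} {ι : V → M}

/-- The subspace of vectors orthogonal to two given ones. -/
def Space.pair (S : Space V) (a b : V) : Submodule (ZMod 2) V := LinearMap.ker (S.B a) ⊓ LinearMap.ker (S.B b)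

theorem Space.mem_pair (S : Space V) {a b u : V} : u ∈ S.pair a b ↔ S.B a u = 0 ∧ S.B b u = 0 := by
  simp [Space.pair, Submodule.mem_inf]

namespace Conf

variable (h : Conf L S ι)

include h

/-- If `C(U)` meets `L` in `K`, it has a normal complement to `K` of odd order. -/
theorem comp [Finite M] (U : Submodule (ZMod 2) V)
    (hU : ∀ l ∈ L, (∀ u ∈ U, Commute l (ι u)) → ∃ w, l = ι w) :
    ∃ W : Subgroup M, (∀ g ∈ W, ∀ u ∈ U, Commute g (ι u)) ∧ (∀ v, ι v ∈ W → v = 0) ∧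
      (∀ g, (∀ u ∈ U, Commute g (ι u)) → Odd (orderOf g) → g ∈ W) ∧
      (∀ g ∈ W, Odd (orderOf g)) ∧
      ∀ g, (∀ u ∈ U, Commute g (ι u)) → ∃ w ∈ W, ∃ v, g = w * ι v := by
  haveI : Fact (Nat.Prime 2) := ⟨Nat.prime_two⟩
  obtain ⟨D, hD⟩ : ∃ D, centralizer ((h.img U : Subgroup M) : Set M) = D := ⟨_, rfl⟩
  have hmemD : ∀ g, g ∈ D ↔ ∀ u ∈ U, Commute g (ι u) := fun g => by
    rw [← hD, mem_centralizer_iff]
    exact ⟨fun hg u hu => (hg _ (h.mem_img hu)).symm, fun hg k ⟨u, hu, e⟩ => e ▸ (hg u hu).eq.symm⟩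
  have hKD : ∀ v, ι v ∈ D := fun v => (hmemD _).2 fun u _ => h.comm v u
  set K' := (h.img ⊤).subgroupOf D with hK'
  have hself : ∀ n : D, n ∈ normalizer (K' : Set D) → n ∈ K' := by
    intro n hn
    have hnL : (n : M) ∈ L := h.norm n fun v => by
      obtain ⟨w, -, e⟩ := mem_subgroupOf.1 (((mem_normalizer_iff.1 hn) ⟨ι v, hKD v⟩).1
        (mem_subgroupOf.2 (h.mem_img Submodule.mem_top)))
      exact ⟨w, e.symm⟩
    obtain ⟨w, hw⟩ := hU n hnL ((hmemD _).1 n.2)
    exact mem_subgroupOf.2 ⟨w, Submodule.mem_top, hw.symm⟩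
  have hK2 : IsPGroup 2 K' := fun ⟨k, hk⟩ => ⟨1, by
    obtain ⟨v, -, hv⟩ := mem_subgroupOf.1 hk
    refine Subtype.ext (Subtype.ext ?_)
    show (k : M) ^ 2 ^ 1 = 1
    rw [pow_one, pow_two, ← hv, h.sq]⟩
  obtain ⟨P, hP⟩ := hK2.exists_le_sylow
  have hPK : K' = (P : Subgroup D) :=
    Embedded.eq_of_normalizer_inf_le P.2 hP fun n hn => hself n hn.2
  have hNC : normalizer ((P : Subgroup D) : Set D) ≤ centralizer ((P : Subgroup D) : Set D) := by
    rw [← hPK]
    intro n hn k hk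
    obtain ⟨a, -, ha⟩ := mem_subgroupOf.1 (hself n hn)
    obtain ⟨b, -, hb⟩ := mem_subgroupOf.1 hk
    refine Subtype.ext ?_
    show (k : M) * n = n * k
    rw [← ha, ← hb]; exact (h.comm b a).eq
  set N := (MonoidHom.transferSylow P hNC).ker
  have hc : Subgroup.IsComplement' N (P : Subgroup D) := MonoidHom.ker_transferSylow_isComplement' P hNC
  have hodd : ¬ 2 ∣ Nat.card N := MonoidHom.not_dvd_card_ker_transferSylow P hNC
  have hoddo : ∀ a : D, a ∈ N → Odd (orderOf (a : M)) := fun a ha => by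
    rw [Subgroup.orderOf_coe]
    have h1 : orderOf a ∣ Nat.card N := Subgroup.orderOf_dvd_natCard N ha
    rw [← Nat.not_even_iff_odd]
    exact fun h2 => hodd (h2.two_dvd.trans h1)
  refine ⟨N.map D.subtype, ?_, ?_, ?_, ?_, ?_⟩
  · rintro _ ⟨a, -, rfl⟩; exact (hmemD _).1 a.2
  · rintro v ⟨a, ha, e⟩
    have h1 := hoddo a ha
    rw [show (a : M) = ι v from e] at h1
    have h2 : orderOf (ι v) ∣ 2 := orderOf_dvd_of_pow_eq_one (by rw [pow_two, h.sq])
    refine h.inj ?_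
    rw [h.map_zero]
    rcases (Nat.dvd_prime Nat.prime_two).1 h2 with h3 | h3
    · exact orderOf_eq_one_iff.1 h3
    · rw [h3] at h1; exact absurd h1 (by decide)
  · intro g hg hgo
    refine ⟨⟨g, (hmemD g).2 hg⟩, ?_, rfl⟩
    rw [SetLike.mem_coe, MonoidHom.mem_ker, ← orderOf_eq_one_iff]
    have h1 : orderOf (MonoidHom.transferSylow P hNC ⟨g, (hmemD g).2 hg⟩) ∣ orderOf g := by
      have := orderOf_map_dvd (MonoidHom.transferSylow P hNC) (⟨g, (hmemD g).2 hg⟩ : D)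
      rwa [← Subgroup.orderOf_coe (⟨g, (hmemD g).2 hg⟩ : D)] at this
    obtain ⟨k, hk⟩ := P.2 (MonoidHom.transferSylow P hNC ⟨g, (hmemD g).2 hg⟩)
    have h2 := orderOf_dvd_of_pow_eq_one hk
    exact Nat.eq_one_of_dvd_coprimes ((Nat.coprime_two_left.2 hgo).pow_left k) h2 h1
  · rintro _ ⟨a, ha, rfl⟩; exact hoddo a ha
  · intro g hg
    obtain ⟨⟨a, b⟩, hab⟩ := hc.2 ⟨g, (hmemD g).2 hg⟩
    have hbK : (b : D) ∈ K' := hPK.symm ▸ b.2
    obtain ⟨v, -, hv⟩ := mem_subgroupOf.1 hbK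
    refine ⟨(a : D), ⟨a, a.2, rfl⟩, v, ?_⟩
    rw [hv]
    exact (congrArg Subtype.val hab).symm

theorem norm_commute {z : M} (hz : ∀ t, Commute z (ι t)) : ∃ w, z = ι w :=
  h.cent z (h.norm z fun t => ⟨t, by rw [(hz t).eq, mul_inv_cancel_right]⟩) hz

/-- **The centralisers of hyperplanes.** -/
theorem cent_hyperplane [Finite M] {v : V} (hv : v ≠ 0) {g : M}
    (hg : ∀ u, S.B v u = 0 → Commute g (ι u)) : g ∈ L := by
  obtain ⟨e, heL, v', hv'0, hv'v, hr, he3, hev, hev', hloc⟩ := h.hyper v hv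
  obtain ⟨γ, hγ, hγadd, hγq⟩ := h.act' heL
  have hγv : γ v = v' := h.inj ((hγ v).symm.trans hev)
  have hγv' : γ v' = v + v' := h.inj ((hγ v').symm.trans hev')
  have hγ3 : ∀ u, γ (γ (γ u)) = u := fun u => h.inj (by
    rw [← hγ, ← hγ, ← hγ]
    calc _ = e ^ 3 * ι u * (e ^ 3)⁻¹ := by simp only [pow_succ, pow_zero, one_mul]; group
      _ = ι u := by rw [he3]; group)
  have hB : ∀ a b, S.B (γ a) (γ b) = S.B a b := S.polar_map hγadd hγq
  set U' := S.pair v v' with hU'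
  obtain ⟨W, hWU, hWK, hWmax, hWodd, hWdec⟩ := h.comp U' fun l hl hc =>
    hloc l hl fun u h1 h2 => hc u (S.mem_pair.2 ⟨h1, h2⟩)
  have hγU : ∀ u ∈ U', γ u ∈ U' := fun u hu => by
    obtain ⟨h1, h2⟩ := S.mem_pair.1 hu
    have a1 : S.B v' (γ u) = 0 := by rw [← hγv, hB, h1]
    have a2 : S.B (v + v') (γ u) = 0 := by rw [← hγv', hB, h2]
    rw [map_add, LinearMap.add_apply, a1, add_zero] at a2
    exact S.mem_pair.2 ⟨a2, a1⟩
  have hWe : ∀ z ∈ W, e * z * e⁻¹ ∈ W := by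
    intro z hz
    refine hWmax _ (fun u hu => ?_) ?_
    · have h1 := (hWU z hz _ (hγU _ (hγU _ hu))).map (MulAut.conj e).toMonoidHom
      simp only [MulEquiv.coe_toMonoidHom, MulAut.conj_apply, hγ, hγ3] at h1
      exact h1
    · rw [← MulAut.conj_apply, ← MulEquiv.coe_toMonoidHom, orderOf_injective _ (MulAut.conj e).injective]
      exact hWodd z hz
  have hWfix : ∀ z ∈ W, e * z * e⁻¹ = z → z = 1 := by
    intro z hz hze
    have hzL : z ∈ L := hr.mem_of_commute heL (mul_inv_eq_iff_eq_mul.1 hze).symm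
    obtain ⟨w, rfl⟩ := hloc z hzL fun u h1 h2 => hWU z hz u (S.mem_pair.2 ⟨h1, h2⟩)
    rw [hWK w hz, h.map_zero]
  obtain ⟨d₀, hd₀⟩ : ∃ d, S.B v d = 1 := by
    by_contra hno
    push Not at hno
    exact hv (S.nd v fun d => (zc _).resolve_right (hno d))
  obtain ⟨c, hc0, hc1⟩ : ∃ c, S.B v c = 0 ∧ S.B v' c = 1 := by
    by_contra hno
    push Not at hno
    have key : ∀ t, S.B v' t = S.B v t * S.B v' d₀ := fun t => by
      rcases zc (S.B v t) with e0 | e0
      · rw [e0, zero_mul]; exact (zc _).resolve_right (hno t e0)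
      · rw [e0, one_mul]
        have := (zc _).resolve_right (hno (t - d₀) (by rw [map_sub, e0, hd₀, sub_self]))
        rwa [map_sub, sub_eq_zero] at this
    rcases zc (S.B v' d₀) with e0 | e0
    · exact hv'0 (S.nd v' fun t => by rw [key, e0, mul_zero])
    · refine hv'v (sub_eq_zero.1 (S.nd _ fun t => ?_))
      rw [map_sub, LinearMap.sub_apply, key, e0, mul_one, sub_self]
  have hinvert : ∀ d, S.B v d = 1 → ∀ z ∈ W, Commute z (ι d) → ι c * z * (ι c)⁻¹ = z⁻¹ := by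
    intro d hd z hz hzd
    refine inverts (W := W ⊓ centralizer ({ι d} : Set M)) (h.sq c) ?_ ?_ z
      ⟨hz, mem_centralizer_singleton_iff.2 hzd.eq⟩
    · rintro y ⟨hy, hyd⟩
      refine ⟨hWmax _ (fun u hu => ((h.comm c u).mul_left (hWU y hy u hu)).mul_left (h.comm c u).inv_left)
        ?_, mem_centralizer_singleton_iff.2
          (((h.comm c d).mul_left (mem_centralizer_singleton_iff.1 hyd)).mul_left (h.comm c d).inv_left).eq⟩
      rw [← MulAut.conj_apply, ← MulEquiv.coe_toMonoidHom, orderOf_injective _ (MulAut.conj (ι c)).injective]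
      exact hWodd y hy
    · rintro y ⟨hy, hyd⟩ hyc
      have hyc' : Commute y (ι c) := (mul_inv_eq_iff_eq_mul.1 hyc).symm
      have hyd' : Commute y (ι d) := mem_centralizer_singleton_iff.1 hyd
      obtain ⟨w, rfl⟩ := h.norm_commute (z := y) fun t => by
        have htd : ∃ a, S.B v (t + a) = 0 ∧ Commute y (ι a) := by
          rcases zc (S.B v t) with e0 | e0
          · exact ⟨0, by rw [add_zero, e0], by rw [h.map_zero]; exact Commute.one_right y⟩
          · exact ⟨d, by rw [map_add, e0, hd]; rfl, hyd'⟩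
        obtain ⟨a, ha, hya⟩ := htd
        have htc : ∃ b, (t + a + b) ∈ U' ∧ Commute y (ι b) := by
          rcases zc (S.B v' (t + a)) with e0 | e0
          · exact ⟨0, S.mem_pair.2 ⟨by rw [add_zero, ha], by rw [add_zero, e0]⟩, by
              rw [h.map_zero]; exact Commute.one_right y⟩
          · exact ⟨c, S.mem_pair.2 ⟨by rw [map_add, ha, hc0, add_zero],
              by rw [map_add, e0, hc1]; rfl⟩, hyc'⟩
        obtain ⟨b, hb, hyb⟩ := htc
        have := ((hWU y hy _ hb).mul_right hyb).mul_right hya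
        rwa [← h.hom, ← h.hom, show t + a + b + b + a = t by
          rw [add_assoc (t + a) b b, Space.add_self, add_zero, add_assoc, Space.add_self, add_zero]] at this
      rw [hWK w hy, h.map_zero]
  obtain ⟨w, hwW, t, rfl⟩ := hWdec g fun u hu => hg u (S.mem_pair.1 hu).1
  have hwc : Commute w (ι c) := by
    have := (hg c hc0).mul_left (h.comm t c).inv_left
    rwa [mul_inv_cancel_right] at this
  have hw2W := hWe w hwW
  have hw3W := hWe _ hw2W
  have hwd : ∀ {z : M} {d : V}, Commute z (ι d) → Commute (e * z * e⁻¹) (ι (γ d)) := fun {z d} hzd => by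
    have := hzd.map (MulAut.conj e).toMonoidHom
    simp only [MulEquiv.coe_toMonoidHom, MulAut.conj_apply, hγ] at this
    exact this
  have hw2 := hwd hwc
  have hw3 := hwd hw2
  have d2 : S.B v (γ c) = 1 := by
    have a1 : S.B v' (γ c) = 0 := by rw [← hγv, hB, hc0]
    have a2 : S.B (v + v') (γ c) = 1 := by rw [← hγv', hB, hc1]
    rwa [map_add, LinearMap.add_apply, a1, add_zero] at a2
  have d3 : S.B v (γ (γ c)) = 1 := by
    have a1 : S.B v' (γ (γ c)) = 1 := by rw [← hγv, hB, d2]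
    have a2 : S.B (v + v') (γ (γ c)) = 0 := by rw [← hγv', hB, ← hγv, hB, hc0]
    rw [map_add, LinearMap.add_apply, a1] at a2
    rcases zc (S.B v (γ (γ c))) with e0 | e0
    · rw [e0] at a2; exact absurd a2 (by decide)
    · exact e0
  have i2 := hinvert _ d2 _ hw2W hw2
  have i3 := hinvert _ d3 _ hw3W hw3
  obtain ⟨p, hp⟩ : ∃ p, e * w * e⁻¹ = p := ⟨_, rfl⟩
  obtain ⟨q, hq⟩ : ∃ q, e * p * e⁻¹ = q := ⟨_, rfl⟩
  have h123 : w * p * q = 1 := by
    rw [← hq, ← hp]; exact three_prod he3 hWe hWfix w hwW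
  rw [hp] at i2 i3
  rw [hq] at i3
  have hqe : e * q * e⁻¹ = w := by
    rw [← hq, ← hp]
    calc _ = e ^ 3 * w * (e ^ 3)⁻¹ := by simp only [pow_succ, pow_zero, one_mul]; group
      _ = w := by rw [he3]; group
  have hinv : ∀ {x y : M}, e * x * e⁻¹ = y → e⁻¹ * y * e⁻¹⁻¹ = x := fun {x y} hxy => by
    rw [← hxy]; group
  have h132 : w * q * p = 1 := by
    have h' := three_prod (W := W) (e := e⁻¹) (by rw [inv_pow, he3, inv_one]) ?_ ?_ w hwW
    · rwa [hinv hqe, hinv hq] at h'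
    · intro z hz
      have : e⁻¹ * z * e⁻¹⁻¹ = e * (e * z * e⁻¹) * e⁻¹ := by
        calc e⁻¹ * z * e⁻¹⁻¹ = e⁻¹ * e ^ 3 * z * (e⁻¹ * e ^ 3)⁻¹ := by rw [he3]; group
          _ = _ := by simp only [pow_succ, pow_zero, one_mul]; group
      rw [this]; exact hWe _ (hWe z hz)
    · intro z hz hze
      refine hWfix z hz ?_
      calc e * z * e⁻¹ = e * (e⁻¹ * z * e⁻¹⁻¹) * e⁻¹ := by rw [hze]
        _ = z := by group
  have hpq : p * q = q * p := by
    rw [mul_assoc] at h123 h132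
    exact mul_left_cancel (h123.trans h132.symm)
  have hws : ι c * w * (ι c)⁻¹ = w := by rw [← hwc.eq, mul_inv_cancel_right]
  have h4 : w * p⁻¹ * q⁻¹ = 1 := by
    rw [← hws, ← i2, ← i3]
    calc _ = ι c * (w * p * q) * (ι c)⁻¹ := by group
      _ = 1 := by rw [h123]; group
  have hw2' : w * w = 1 := by
    have a : w = (p * q)⁻¹ := eq_inv_of_mul_eq_one_left (by rw [← mul_assoc]; exact h123)
    have b : w = p * q := by
      rw [hpq]
      refine mul_inv_eq_one.1 ?_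
      rw [mul_inv_rev, ← mul_assoc]; exact h4
    conv_lhs => arg 1; rw [a]
    rw [← b, inv_mul_cancel]
  have hw1 : w = 1 := by
    have h1 : orderOf w ∣ 2 := orderOf_dvd_of_pow_eq_one (by rw [pow_two, hw2'])
    rcases (Nat.dvd_prime Nat.prime_two).1 h1 with h3 | h3
    · exact orderOf_eq_one_iff.1 h3
    · exact absurd (h3 ▸ hWodd w hwW) (by decide)
  rw [hw1, one_mul]
  exact h.mem t

/-- **The perps of anisotropic planes.** -/
theorem cent_plane [Finite M] {w₁ w₂ : V} (h₁ : S.q w₁ = 1) (h₂ : S.q w₂ = 1)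
    (h₁₂ : S.q (w₁ + w₂) = 1) {g : M}
    (hg : ∀ u, S.B w₁ u = 0 → S.B w₂ u = 0 → Commute g (ι u)) : g ∈ L := by
  set U := S.pair w₁ w₂
  have hloc : ∀ l ∈ L, (∀ u ∈ U, Commute l (ι u)) → ∃ w, l = ι w := fun l hl hc =>
    h.plane w₁ w₂ h₁ h₂ h₁₂ l hl fun u a b => hc u (S.mem_pair.2 ⟨a, b⟩)
  obtain ⟨W, hWU, hWK, hWmax, hWodd, hWdec⟩ := h.comp U hloc
  have hB : S.B w₁ w₂ = 1 := by
    have := S.q_add w₁ w₂
    rw [h₁, h₂, h₁₂] at this
    rcases zc (S.B w₁ w₂) with e | e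
    · rw [e] at this; exact absurd this (by decide)
    · exact e
  have hw12 : w₁ + w₂ ≠ 0 := h.ne_zero h₁₂
  -- each of the three vectors of the plane inverts the complement
  have hinv : ∀ c v, v ≠ 0 → S.B v c = 0 → (∀ x, S.B v x = 0 → x ∈ U ∨ x + c ∈ U) →
      ∀ z ∈ W, ι c * z * (ι c)⁻¹ = z⁻¹ := by
    intro c v hv hvc hsplit
    refine inverts (h.sq c) (fun y hy => hWmax _ (fun u hu =>
      ((h.comm c u).mul_left (hWU y hy u hu)).mul_left (h.comm c u).inv_left) ?_) fun y hy hyc => ?_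
    · rw [← MulAut.conj_apply, ← MulEquiv.coe_toMonoidHom,
        orderOf_injective _ (MulAut.conj (ι c)).injective]
      exact hWodd y hy
    · have hyc' : Commute y (ι c) := (mul_inv_eq_iff_eq_mul.1 hyc).symm
      have hyL : y ∈ L := h.cent_hyperplane hv fun x hx => by
        rcases hsplit x hx with h1 | h1
        · exact hWU y hy x h1
        · have := (hWU y hy _ h1).mul_right hyc'
          rwa [← h.hom, add_assoc, Space.add_self, add_zero] at this
      obtain ⟨w, rfl⟩ := hloc y hyL (hWU y hy)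
      rw [hWK w hy, h.map_zero]
  have hB' : S.B w₂ w₁ = 1 := (S.symm _ _).trans hB
  obtain ⟨w, hw, t, rfl⟩ := hWdec g fun u hu => hg u (S.mem_pair.1 hu).1 (S.mem_pair.1 hu).2
  have mk : ∀ {x c : V}, S.B w₁ (x + c) = 0 → S.B w₂ (x + c) = 0 → x + c ∈ U :=
    fun a b => S.mem_pair.2 ⟨a, b⟩
  have e1 := hinv w₁ w₁ (h.ne_zero h₁) (S.self w₁) (fun x hx => by
    rcases zc (S.B w₂ x) with e | e
    · exact Or.inl (S.mem_pair.2 ⟨hx, e⟩)
    · exact Or.inr (mk (by rw [map_add, hx, S.self, add_zero]) (by rw [map_add, e, hB']; rfl))) w hw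
  have e2 := hinv w₂ w₂ (h.ne_zero h₂) (S.self w₂) (fun x hx => by
    rcases zc (S.B w₁ x) with e | e
    · exact Or.inl (S.mem_pair.2 ⟨e, hx⟩)
    · exact Or.inr (mk (by rw [map_add, e, hB]; rfl) (by rw [map_add, hx, S.self, add_zero]))) w hw
  have e3 := hinv (w₁ + w₂) (w₁ + w₂) hw12 (S.self _) (fun x hx => by
    rw [map_add, LinearMap.add_apply] at hx
    rcases zc (S.B w₁ x) with e | e
    · rw [e, zero_add] at hx
      exact Or.inl (S.mem_pair.2 ⟨e, hx⟩)
    · have e' : S.B w₂ x = 1 := by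
        rcases zc (S.B w₂ x) with e' | e'
        · rw [e, e'] at hx; exact absurd hx (by decide)
        · exact e'
      exact Or.inr (mk (by rw [map_add, map_add, e, hB, S.self, zero_add]; rfl)
        (by rw [map_add, map_add, e', hB', S.self, add_zero]; rfl))) w hw
  have hz : w = w⁻¹ := by
    rw [h.hom] at e3
    conv_rhs => rw [← e3]
    have : ι w₁ * ι w₂ * w * (ι w₁ * ι w₂)⁻¹ = ι w₁ * (ι w₂ * w * (ι w₂)⁻¹) * (ι w₁)⁻¹ := by group
    rw [this, e2]
    have e1' := congrArg (·⁻¹) e1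
    simp only [inv_inv, mul_inv_rev] at e1'
    rw [mul_assoc, e1']
  have hw1 : w = 1 := by
    have h1 : orderOf w ∣ 2 := orderOf_dvd_of_pow_eq_one (by
      rw [pow_two]; nth_rw 1 [hz]; exact inv_mul_cancel w)
    rcases (Nat.dvd_prime Nat.prime_two).1 h1 with h3 | h3
    · exact orderOf_eq_one_iff.1 h3
    · exact absurd (h3 ▸ hWodd w hw) (by decide)
  rw [hw1, one_mul]
  exact h.mem t

/-- The step from the larger subspaces: two non-singular cosets apart. -/
theorem cent_step [Finite M] {U : Submodule (ZMod 2) V}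
    (IH : ∀ U', U < U' → ∀ g, (∀ u ∈ U', Commute g (ι u)) → g ∈ L) (hA : S.Apart U) {g₀ : M}
    (hg₀ : ∀ u ∈ U, Commute g₀ (ι u)) : g₀ ∈ L := by
  classical
  obtain ⟨n₁, n₂, hq₁, hq₂, hn₁, hn₂, hapart⟩ := hA
  -- centralising `U` and some `k` outside it
  have hbig : ∀ {k}, k ∉ U → ∀ z, (∀ u ∈ U, Commute z (ι u)) → Commute z (ι k) → z ∈ L := by
    intro k hk z hz hzk
    refine IH (U ⊔ (ZMod 2) ∙ k) (lt_of_le_of_ne le_sup_left fun e =>
      hk (e ▸ Submodule.mem_sup_right (Submodule.mem_span_singleton_self k))) z fun x hx => ?_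
    obtain ⟨a, ha, b, hb, rfl⟩ := Submodule.mem_sup.1 hx
    obtain ⟨r, rfl⟩ := Submodule.mem_span_singleton.1 hb
    rw [h.hom]
    refine (hz a ha).mul_right ?_
    rcases zc r with rfl | rfl
    · rw [zero_smul, h.map_zero]; exact Commute.one_right z
    · rw [one_smul]; exact hzk
  -- an element of `C(U)` mapping `ι k` into `K` outside `ι U`
  have hmove : ∀ {z k m}, (∀ u ∈ U, Commute z (ι u)) → m ∉ U → z * ι k * z⁻¹ = ι m → z ∈ L := by
    intro z k m hz hm e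
    refine h.weak_closed fun t => hbig hm _ (fun u hu => ?_) ?_
    · exact ((hz u hu).mul_left (h.comm t u)).mul_left (hz u hu).inv_left
    · rw [← e]
      simpa using (h.comm t k).map (MulAut.conj z).toMonoidHom
  obtain ⟨D, hD⟩ : ∃ D, centralizer ((h.img U : Subgroup M) : Set M) = D := ⟨_, rfl⟩
  have hmemD : ∀ g, g ∈ D ↔ ∀ u ∈ U, Commute g (ι u) := fun g => by
    rw [← hD, mem_centralizer_iff]
    exact ⟨fun hg u hu => (hg _ (h.mem_img hu)).symm, fun hg k ⟨u, hu, e⟩ => e ▸ (hg u hu).eq.symm⟩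
  have hKD : ∀ v, ι v ∈ D := fun v => (hmemD _).2 fun u _ => h.comm v u
  have : ((h.img U).subgroupOf D).Normal := ⟨fun n hn z => by
    rw [mem_subgroupOf] at hn ⊢
    obtain ⟨u, hu, e⟩ := hn
    rw [coe_mul, coe_mul, coe_inv, ← e, ((hmemD _).1 z.2 u hu).eq, mul_inv_cancel_right]
    exact h.mem_img hu⟩
  obtain ⟨π, hπs, hπ⟩ : ∃ π : D →* D ⧸ (h.img U).subgroupOf D, Function.Surjective π ∧
      ∀ a b : D, π a = π b ↔ ∃ u ∈ U, (b : M) = a * ι u :=
    ⟨QuotientGroup.mk' _, QuotientGroup.mk'_surjective _, fun a b => by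
      rw [QuotientGroup.mk'_eq_mk']
      constructor
      · rintro ⟨z, hz, rfl⟩
        obtain ⟨u, hu, e⟩ := mem_subgroupOf.1 hz
        exact ⟨u, hu, by rw [coe_mul, e]⟩
      · rintro ⟨u, hu, e⟩
        exact ⟨⟨ι u, hKD u⟩, mem_subgroupOf.2 (h.mem_img hu), Subtype.ext e.symm⟩⟩
  have hLmem : ∀ a : D, π a ∈ (L.subgroupOf D).map π → (a : M) ∈ L := by
    rintro a ⟨b, hb, hab⟩
    obtain ⟨u, hu, e⟩ := (hπ b a).1 hab
    rw [e]; exact L.mul_mem (mem_subgroupOf.1 hb) (h.mem u)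
  -- non-singular elements outside `U` are rigid in `C(U)`
  have hrigid : ∀ {n} (hn : S.q n = 1), n ∉ U → ∀ z, (∀ u ∈ U, Commute z (ι u)) →
      z * ι n * z⁻¹ ∈ L → z ∈ L := by
    intro n hn hnU z hz hzn
    obtain ⟨m, hm⟩ := h.closed hn hzn
    refine hmove hz (fun hmU => hnU ?_) hm
    have e : ι n = ι m := by
      refine mul_left_cancel (a := z) ?_
      rw [(hz m hmU).eq, ← hm]; group
    exact h.inj e ▸ hmU
  have key := eq_top_of_two (L := (L.subgroupOf D).map π) (K := ((h.img ⊤).subgroupOf D).map π)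
    (map_mono fun a ha => mem_subgroupOf.mpr (h.img_le ⊤ (mem_subgroupOf.mp ha))) ?_ ?_ ?_
    (a := π ⟨ι n₁, hKD n₁⟩) (b := π ⟨ι n₂, hKD n₂⟩)
    ⟨_, mem_subgroupOf.mpr (h.mem_img Submodule.mem_top), rfl⟩
    ⟨_, mem_subgroupOf.mpr (h.mem_img Submodule.mem_top), rfl⟩ ?_ ?_ ?_
  · exact hLmem ⟨g₀, (hmemD _).2 hg₀⟩ (by rw [key]; trivial)
  · rintro _ ⟨l, hl, rfl⟩ _ ⟨k, hk, rfl⟩
    obtain ⟨v, -, hv⟩ := mem_subgroupOf.1 hk
    obtain ⟨g, hg, -⟩ := h.act _ (mem_subgroupOf.1 hl)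
    exact ⟨l * k * l⁻¹, mem_subgroupOf.mpr ⟨g v, Submodule.mem_top, by
      rw [coe_mul, coe_mul, coe_inv, ← hv, hg]⟩, by simp⟩
  · rintro _ ⟨k, hk, rfl⟩
    obtain ⟨v, -, hv⟩ := mem_subgroupOf.1 hk
    rw [← map_mul, ← map_one π]
    exact congrArg π (Subtype.ext (by rw [coe_mul, ← hv, h.sq]; rfl))
  · rintro _ ⟨k, hk, rfl⟩ hk1 z' hz'
    obtain ⟨z, rfl⟩ := hπs z'
    refine ⟨z, mem_subgroupOf.mpr ?_, rfl⟩
    obtain ⟨v, -, hv⟩ := mem_subgroupOf.1 hk
    have h1 : π (k * z) = π (z * k) := by rw [map_mul, map_mul]; exact hz'.eq.symm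
    obtain ⟨u, hu, e⟩ := (hπ _ _).1 h1
    rw [coe_mul, coe_mul, ← hv] at e
    have hvU : v ∉ U := fun hvU => hk1 (by
      rw [← map_one π]
      exact ((hπ 1 k).2 ⟨v, hvU, by rw [coe_one, one_mul, hv]⟩).symm)
    refine hmove ((hmemD _).1 z.2) (m := v + u) (fun hm => hvU ?_) (k := v) ?_
    · simpa using U.sub_mem hm hu
    · rw [e, h.hom, mul_assoc (ι v) _ (ι u), ((hmemD _).1 z.2 u hu).eq]
      group
  · intro z' hz'
    obtain ⟨z, rfl⟩ := hπs z'
    rw [← map_inv, ← map_mul, ← map_mul] at hz'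
    exact ⟨z, mem_subgroupOf.mpr (hrigid hq₁ hn₁ z ((hmemD _).1 z.2) (by simpa using hLmem _ hz')), rfl⟩
  · intro z' hz'
    obtain ⟨z, rfl⟩ := hπs z'
    rw [← map_inv, ← map_mul, ← map_mul] at hz'
    exact ⟨z, mem_subgroupOf.mpr (hrigid hq₂ hn₂ z ((hmemD _).1 z.2) (by simpa using hLmem _ hz')), rfl⟩
  · intro z' hz'
    obtain ⟨z, rfl⟩ := hπs z'
    rw [← map_inv, ← map_mul, ← map_mul] at hz'
    obtain ⟨u, hu, e⟩ := (hπ _ _).1 hz'
    rw [coe_mul, coe_mul, coe_inv] at e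
    have hzn : (z : M) * ι n₁ * (z : M)⁻¹ = ι (n₂ + u) := by
      rw [h.hom, show ι n₂ = (z : M) * ι n₁ * (z : M)⁻¹ * ι u from e, mul_assoc _ (ι u) (ι u), h.sq,
        mul_one]
    have hzL : (z : M) ∈ L := hrigid hq₁ hn₁ z ((hmemD _).1 z.2) (hzn ▸ h.mem _)
    obtain ⟨g, hg, hgadd, hgq⟩ := h.act' hzL
    refine hapart g hgadd hgq (fun w hw => h.inj ?_) ?_
    · rw [← hg, ((hmemD _).1 z.2 w hw).eq, mul_inv_cancel_right]
    · rw [h.inj ((hg n₁).symm.trans hzn), add_sub_cancel_left]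
      exact hu

/-- The centralisers of all non-trivial subspaces lie in `L`. -/
theorem cent_le [Finite M] (U : Submodule (ZMod 2) V) (hU : U ≠ ⊥) {g : M}
    (hg : ∀ u ∈ U, Commute g (ι u)) : g ∈ L := by
  haveI := h.finiteV
  induction U using WellFoundedGT.induction generalizing g with
  | ind U IH =>
    rcases S.two_classes hU with (h1 | ⟨v, hv, h1⟩ | ⟨w₁, w₂, a, b, c, h1⟩) | hA
    · exact h.norm g fun t => ⟨t, by rw [(hg t (h1 ▸ Submodule.mem_top)).eq, mul_inv_cancel_right]⟩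
    · exact h.cent_hyperplane hv fun u hu => hg u ((h1 u).2 hu)
    · exact h.cent_plane a b c fun u h2 h3 => hg u ((h1 u).2 ⟨h2, h3⟩)
    · exact h.cent_step (fun U' hlt z hz => IH U' hlt (ne_bot_of_le_ne_bot hU hlt.le) hz) hA hg

theorem cent_one [Finite M] {v : V} (hv : v ≠ 0) {g : M} (hg : Commute g (ι v)) : g ∈ L := by
  refine h.cent_le ((ZMod 2) ∙ v) (by simpa using hv) fun u hu => ?_
  obtain ⟨r, rfl⟩ := Submodule.mem_span_singleton.1 hu
  rcases zc r with rfl | rfl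
  · rw [zero_smul, h.map_zero]; exact Commute.one_right g
  · rw [one_smul]; exact hg

theorem rigid_of_nonsingular [Finite M] {x : V} (hx : S.q x = 1) : Rigid L (ι x) := by
  intro g hg
  obtain ⟨m, hm⟩ := h.closed hx hg
  refine h.weak_closed fun t => h.cent_one (v := m) (fun e => h.ne_zero hx ?_) ?_
  · rw [e, h.map_zero, conj_eq_one_iff, ← h.map_zero] at hm
    exact h.inj hm
  · rw [← hm]
    simpa using (h.comm t x).map (MulAut.conj g).toMonoidHom

/-- **The normaliser is everything.** -/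
theorem eq_top [Finite M] : L = ⊤ := by
  obtain ⟨s, hs0, hs⟩ := h.sing
  obtain ⟨x, hx, -⟩ := h.gen 0
  have hsr : Rigid L (ι s) := by
    intro g hg
    by_cases hK : ∃ m, g * ι s * g⁻¹ = ι m
    · obtain ⟨m, hm⟩ := hK
      refine h.weak_closed fun t => h.cent_one (v := m) (fun e => hs0 ?_) ?_
      · rw [e, h.map_zero, conj_eq_one_iff, ← h.map_zero] at hm
        exact h.inj hm
      · rw [← hm]
        simpa using (h.comm t s).map (MulAut.conj g).toMonoidHom
    · push Not at hK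
      have key : ∀ e ∈ L, Rigid L e → Commute e (g * ι s * g⁻¹) → g ∈ L := by
        intro e heL hr he
        have h1 : g⁻¹ * e * g ∈ L := h.cent_one hs0 (by
          have := he.map (MulAut.conj g⁻¹).toMonoidHom
          simpa [mul_assoc] using this)
        simpa using L.inv_mem (hr g⁻¹ (by simpa using h1))
      rcases h.fixed _ hg (by
        rw [show g * ι s * g⁻¹ * (g * ι s * g⁻¹) = g * (ι s * ι s) * g⁻¹ by group, h.sq, mul_one,
          mul_inv_cancel]) hK with ⟨y, hy, hc⟩ | ⟨e, heL, he3, he1, hej⟩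
      · exact key _ (h.mem y) (h.rigid_of_nonsingular hy) hc.symm
      · have h1 : Commute (g⁻¹ * e * g) (ι s) := by
          have := hej.map (MulAut.conj g⁻¹).toMonoidHom
          simpa [mul_assoc] using this
        refine h.three _ (h.cent_one hs0 h1) ?_ ?_ s hs0 h1 g ?_
        · rw [show g⁻¹ * e * g = g⁻¹ * e * g⁻¹⁻¹ by group, conj_pow, he3, mul_one, mul_inv_cancel]
        · intro e0
          exact he1 (conj_eq_one_iff.1 (by rw [inv_inv]; exact e0 : g⁻¹ * e * g⁻¹⁻¹ = 1))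
        · rw [show g * (g⁻¹ * e * g) * g⁻¹ = e by group]; exact heL
  refine eq_top_of_two (L := L) (K := h.img ⊤) (h.img_le ⊤) ?_ ?_ ?_ (h.mem_img Submodule.mem_top)
    (h.mem_img Submodule.mem_top) (h.rigid_of_nonsingular hx) hsr fun g hg => ?_
  · rintro l hl _ ⟨v, -, rfl⟩
    obtain ⟨γ, hγ, -⟩ := h.act l hl
    exact ⟨γ v, Submodule.mem_top, (hγ v).symm⟩
  · rintro _ ⟨v, -, rfl⟩; exact h.sq v
  · rintro _ ⟨v, -, rfl⟩ hv g hg
    exact h.cent_one (fun e => hv (by rw [e, h.map_zero])) hg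
  · have h1 := h.q_conj (h.rigid_of_nonsingular hx g (hg ▸ h.mem s)) hg
    rw [hs, hx] at h1
    exact absurd h1 (by decide)

end Conf

end Cfsg.Agent.Co2ThreeC
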