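import Cfsg.Agent.Co2ThreeC.Data
import Cfsg.Agent.CoTwoType.Spin

/-!
The orders of the two spin images, their Sylow 2-subgroups, transitivity on the non-singular vectors.
-/

set_option autoImplicit false
set_option maxRecDepth 100000

open Cfsg.Agent.ThreeTrans.OrthCohom Cfsg.Agent.CoOneType Cfsg.Agent.CoTwoType Cfsg.Agent.Classical.Quad Cfsg.Agent.Compute
open Cfsg.Agent.CoTwoUniq.Cent (tO tO_dc o_ext shl_lt tO_sq tO_mem χ χ_tO χ_surjective exists_rel Rel apF
  apF_mul apF_one tv ap ap_tv ap_lt tvImg_lt tv_sq sp_induction)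
open Cfsg.Agent.CoTwoThree (qMinus u4)
open Cfsg.Agent.SympMult.SpSix (tvImg)
open Cfsg.Agent.Co3Rec (Sp)

namespace Cfsg.Agent.Co2ThreeC

/-! ## The order of `sp6` -/

instance finite_O : Finite O :=
  Finite.of_injective (fun g : O => ((g.1 : V → V))) fun g h e => Subtype.ext (LinearEquiv.ext (congrFun e))

theorem vac_check : (allBelow 256 fun v => Nat.beq v 0 || Nat.beq v 1 ||
    !([8, 16, 24, 32, 40, 48, 56].all fun a => Nat.beq (ap8 (tc a) v) v)) = true := by decide +kernel

theorem vac_fix : ([8, 16, 24, 32, 40, 48, 56].all fun a => Nat.beq (ap8 (tc a) 1) 1) = true := by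
  decide +kernel

theorem basis_check : (allBelow 8 fun i => Nat.beq (ap8 (wc (basisW.getD i [])) 1) (1 <<< i)) = true := by
  decide +kernel

theorem eq_one_of_comm {o : O} (h : ∀ a, Commute o (tOn a)) : o = 1 := by
  have hw : ∀ w, Commute o (wO w) := by
    intro w
    induction w with
    | nil => exact Commute.one_right o
    | cons a w ih => exact (h a).mul_right ih
  obtain ⟨i, hi⟩ := dc_surj (o.1 (dc 1))
  have hfix : ∀ a ∈ [8, 16, 24, 32, 40, 48, 56], ap8 (tc a) i.val = i.val := by
    intro a ha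
    rw [← (rep_tOn a).fix_iff i.2, hi, ← oG_mul_apply, ← (h a).eq, oG_mul_apply,
      ((rep_tOn a).fix_iff (by norm_num)).2
        (Nat.eq_of_beq_eq_true (List.all_eq_true.1 vac_fix a ha))]
  have hc := allBelow_eq_true.mp vac_check i.val i.2
  simp only [Bool.or_eq_true, Nat.beq_eq, Bool.not_eq_true'] at hc
  have h1 : o.1 (dc 1) = dc 1 := by
    rcases hc with (e | e) | e
    · exfalso
      rw [e, dc_zero] at hi
      have e1 : dc 1 = dc 0 := by
        rw [dc_zero]
        exact o.1.injective (hi.symm.trans (map_zero o.1).symm)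
      exact absurd (dc_inj (by norm_num) (by norm_num) e1) (by norm_num)
    · rw [← hi, e]
    · have : ([8, 16, 24, 32, 40, 48, 56].all fun a => Nat.beq (ap8 (tc a) i.val) i.val) = true :=
        List.all_eq_true.2 fun a ha => by rw [hfix a ha]; exact Nat.beq_refl _
      rw [this] at e
      exact absurd e (by simp)
  refine o_ext fun n hn => ?_
  have e := Nat.eq_of_beq_eq_true (allBelow_eq_true.mp basis_check n hn)
  rw [← e, ← (rep_wO _).apply (by norm_num), ← oG_mul_apply, (hw _).eq, oG_mul_apply, h1, oG_one_apply]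

theorem χ_inj : Function.Injective χ := by
  refine (injective_iff_map_eq_one χ).2 fun o ho => ?_
  have hr : Rel o.1 (χ o) := (exists_rel o.2).choose_spec
  rw [ho] at hr
  refine Subtype.ext (eq_one_of_comm fun a => ?_)
  rw [tOn]
  split_ifs with ha
  · have e := hr ⟨a, ha⟩
    rw [apF_one] at e
    exact mul_inv_eq_iff_eq_mul.1 e
  · exact Commute.one_right _

theorem card_sp6 : Nat.card ↥sp6 = 1451520 := by
  rw [Nat.card_congr (Equiv.ofBijective χ ⟨χ_inj, χ_surjective⟩), Co3Rec.card_Sp]

/-! ## The stabiliser of the form of minus type -/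

/-- A function on the sixty-four centres. -/
@[ext] structure Frm where
  /-- its values -/
  f : Fin 64 → Bool

noncomputable instance : MulAction Sp Frm where
  smul B F := ⟨fun a => F.f (apF B⁻¹ a)⟩
  one_smul F := Frm.ext (funext fun a => by
    show F.f (apF (1 : Sp)⁻¹ a) = F.f a
    rw [inv_one, apF_one])
  mul_smul A B F := Frm.ext (funext fun a => by
    show F.f (apF (A * B)⁻¹ a) = F.f (apF B⁻¹ (apF A⁻¹ a))
    rw [mul_inv_rev, apF_mul])

theorem tv_smul {a : ℕ} (ha : a < 64) (F : Frm) :
    tv a • F = ⟨fun x => F.f ⟨tvImg a x, tvImg_lt ha x.2⟩⟩ := Frm.ext (funext fun x => by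
  show F.f (apF (tv a)⁻¹ x) = _
  rw [inv_eq_of_mul_eq_one_right (tv_sq ha)]
  exact congrArg F.f (Fin.ext (ap_tv ha x.2)))

/-- The form of minus type. -/
def q0 : Frm := ⟨fun a => qMinus a.val⟩

/-- The image of a centre under a word. -/
noncomputable def imgW (w : List ℕ) (x : ℕ) : ℕ := w.foldr tvImg x

/-- The form reached by a word. -/
noncomputable def frm (w : List ℕ) : Frm := ⟨fun x => qMinus (imgW w.reverse x.val)⟩

theorem frm_cons {a : ℕ} (ha : a < 64) (w : List ℕ) : tv a • frm w = frm (a :: w) := by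
  rw [tv_smul ha]
  refine Frm.ext (funext fun x => ?_)
  show qMinus (imgW w.reverse (tvImg a x)) = qMinus (imgW (a :: w).reverse x.val)
  rw [imgW, imgW, List.reverse_cons, List.foldr_append]
  rfl

theorem formW_lt : (formW.all fun w => w.all fun a => Nat.blt a 64) = true := by decide +kernel

theorem formW_closed : ([8, 16, 32, 1, 2, 4, 24, 48].all fun a => formW.all fun w => formW.any fun w' =>
    allBelow 64 fun x => qMinus (imgW (a :: w).reverse x) == qMinus (imgW w'.reverse x)) = true := by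
  decide +kernel

theorem steps_check : (steps.all fun p =>
    Nat.beq (tS p.1 p.2).val (tvImg p.1.val p.2.val)) = true := by decide +kernel

theorem formW_distinct : (allBelow 28 fun i => allBelow 28 fun j => Nat.beq i j ||
    !(allBelow 64 fun x => qMinus (imgW (formW.getD i []).reverse x) ==
      qMinus (imgW (formW.getD j []).reverse x))) = true := by
  decide +kernel

theorem formW_head : formW.getD 0 [] = [] ∧ formW.length = 28 := by decide +kernel

theorem card_orbit : (MulAction.orbit Sp q0).ncard = 28 := by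
  classical
  obtain ⟨hh, hlen⟩ := formW_head
  have hin : ∀ w, (∀ a ∈ w, a < 64) → frm w ∈ MulAction.orbit Sp q0 := by
    intro w
    induction w with
    | nil => exact fun _ => ⟨1, one_smul _ _⟩
    | cons a w ih =>
      intro h
      obtain ⟨B, hB⟩ := ih fun b hb => h b (List.mem_cons_of_mem _ hb)
      refine ⟨tv a * B, ?_⟩
      show (tv a * B) • q0 = _
      rw [mul_smul, ← frm_cons (h a List.mem_cons_self)]
      exact congrArg _ hB
  have hset : MulAction.orbit Sp q0 = Set.range fun i : Fin 28 => frm (formW.getD i.val []) := by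
    refine Set.Subset.antisymm ?_ ?_
    · rintro _ ⟨B, rfl⟩
      let R := Set.range fun i : Fin 28 => frm (formW.getD i.val [])
      have hgen : ∀ a : Fin 64, a.val ∈ [8, 16, 32, 1, 2, 4, 24, 48] → ∀ F ∈ R, tv a.val • F ∈ R := by
        rintro a ha _ ⟨i, rfl⟩
        have hi : i.val < formW.length := by omega
        have hm : formW.getD i.val [] ∈ formW := by
          rw [List.getD_eq_getElem _ _ hi]; exact List.getElem_mem hi
        obtain ⟨w', hw', e⟩ := List.any_eq_true.1
          (List.all_eq_true.1 (List.all_eq_true.1 formW_closed a.val ha) _ hm)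
        obtain ⟨j, hj, rfl⟩ := List.getElem_of_mem hw'
        refine ⟨⟨j, hlen ▸ hj⟩, ?_⟩
        show frm (formW.getD j []) = tv a.val • frm (formW.getD i.val [])
        rw [List.getD_eq_getElem _ _ hj, frm_cons a.2]
        exact Frm.ext (funext fun x => (eq_of_beq (allBelow_eq_true.mp e x.val x.2)).symm)
      have hall : ∀ a : Fin 64, a ≠ 0 → ∀ F ∈ R, tv a.val • F ∈ R := by
        refine of_gens (P := fun a => ∀ F ∈ R, tv a.val • F ∈ R) (fun a ha => hgen a ?_) ?_
        · simp only [gens8, List.mem_cons, List.not_mem_nil, or_false] at ha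
          rcases ha with rfl | rfl | rfl | rfl | rfl | rfl | rfl | rfl <;> decide
        · intro p hp h1 h2 F hF
          rw [Nat.eq_of_beq_eq_true (List.all_eq_true.1 steps_check p hp),
            ← ap_tv p.1.2 p.2.2, ← CoTwoUniq.Cent.conj_tv _ p.2.2,
            inv_eq_of_mul_eq_one_right (tv_sq p.1.2), mul_smul, mul_smul]
          exact h1 _ (h2 _ (h1 _ hF))
      refine sp_induction (P := fun B => ∀ F ∈ R, B • F ∈ R)
        (fun F hF => by rwa [one_smul]) (fun A B hA hB F hF => by rw [mul_smul]; exact hA _ (hB F hF))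
        ?_ B q0 ⟨0, by simp only [Fin.val_zero, hh]; rfl⟩
      intro a ha F hF
      by_cases h0 : a = 0
      · rw [h0, CoTwoUniq.Cent.tv_zero, one_smul]
        exact hF
      · exact hall ⟨a, ha⟩ (fun e => h0 (congrArg Fin.val e)) F hF
    · rintro _ ⟨i, rfl⟩
      have hi : i.val < formW.length := by omega
      refine hin _ fun a ha => ?_
      have := List.all_eq_true.1 formW_lt _ (List.getD_eq_getElem formW [] hi ▸ List.getElem_mem hi)
      exact Nat.blt_eq.mp (List.all_eq_true.1 this a ha)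
  rw [hset, Set.ncard_range_of_injective]
  · simp
  · intro i j e
    have h := allBelow_eq_true.mp (allBelow_eq_true.mp formW_distinct i.val i.2) j.val j.2
    rw [show (allBelow 64 fun x => qMinus (imgW (formW.getD i.val []).reverse x) ==
      qMinus (imgW (formW.getD j.val []).reverse x)) = true from
        allBelow_eq_true.mpr fun x hx => beq_iff_eq.2 (congrFun (congrArg Frm.f e) ⟨x, hx⟩),
      Bool.not_true, Bool.or_false] at h
    exact Fin.ext (Nat.eq_of_beq_eq_true h)

theorem card_stab : Nat.card ↥(MulAction.stabilizer Sp q0) = 51840 := by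
  have h := (MulAction.stabilizer Sp q0).card_mul_index
  rw [MulAction.index_stabilizer, card_orbit, Co3Rec.card_Sp] at h
  omega

theorem minus_check : (allBelow 64 fun a => !(qMinus a) ||
    allBelow 64 fun x => qMinus (tvImg a x) == qMinus x) = true := by
  decide +kernel

theorem u4_le_stab : u4 ≤ ((MulAction.stabilizer Sp q0).comap χ).map sp6.subtype := by
  rw [u4, Subgroup.closure_le]
  rintro o ⟨a, ha, ho⟩
  have e : o = tO a := o_ext fun n hn => (ho ⟨_, shl_lt hn⟩).trans (tO_dc a (shl_lt hn)).symm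
  refine ⟨⟨tO a, tO_mem a⟩, ?_, e.symm⟩
  show χ ⟨tO a, tO_mem a⟩ ∈ MulAction.stabilizer Sp q0
  rw [χ_tO, MulAction.mem_stabilizer_iff, tv_smul a.2]
  refine Frm.ext (funext fun x => ?_)
  have h := allBelow_eq_true.mp minus_check a.val a.2
  rw [ha, Bool.not_true, Bool.false_or] at h
  exact eq_of_beq (allBelow_eq_true.mp h x.val x.2)

theorem u4_le_sp6 : u4 ≤ sp6 := by
  intro o ho
  obtain ⟨p, -, rfl⟩ := u4_le_stab ho
  exact p.2

theorem card_u4_dvd : Nat.card ↥u4 ∣ 51840 := by
  have h := Subgroup.card_dvd_of_le u4_le_stab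
  rw [Subgroup.card_map_of_injective sp6.subtype_injective,
    ← Subgroup.card_map_of_injective χ_inj,
    Subgroup.map_comap_eq_self_of_surjective χ_surjective, card_stab] at h
  exact h

/-! ## Sylow subgroups -/

theorem sylU_ok : okT sylUGens sylU = true := by decide +kernel

theorem sylS_ok : okT sylSGens sylS = true := by decide +kernel

theorem sylX_ok : okT sylXGens sylX = true := by decide +kernel

theorem nine_ok : okT nineGens nine = true := by decide +kernel

theorem table_lengths : sylU.items.length = 128 ∧ sylS.items.length = 512 ∧ sylX.items.length = 64 ∧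
    nine.items.length = 9 := by decide +kernel

theorem tgrp_le_sp6 (gens : List (List ℕ)) : tgrp gens ≤ sp6 := by
  rw [tgrp, Subgroup.closure_le]
  rintro _ ⟨w, -, rfl⟩
  exact wO_mem_sp6 w

theorem tgrp_le_u4 {gens : List (List ℕ)} (h : gens.all uw = true) : tgrp gens ≤ u4 := by
  rw [tgrp, Subgroup.closure_le]
  rintro _ ⟨w, hw, rfl⟩
  exact wO_mem_u4 w (List.all_eq_true.1 h w hw)

theorem gens_uw : sylUGens.all uw = true ∧ nineGens.all uw = true := by decide +kernel

/-- A subgroup of full 2-power order contains a conjugate of every 2-subgroup. -/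
theorem conj_into {G S P : Subgroup O} {n : ℕ} (hS : S ≤ G) (hc : Nat.card S = 2 ^ n)
    (hn : ¬ 2 ^ (n + 1) ∣ Nat.card G) (hP : P ≤ G) (hp : IsPGroup 2 P) :
    ∃ g ∈ G, ∀ x ∈ P, g * x * g⁻¹ ∈ S := by
  haveI : Fact (Nat.Prime 2) := ⟨Nat.prime_two⟩
  have hS' : IsPGroup 2 (S.subgroupOf G) :=
    (IsPGroup.of_card hc).of_equiv (Subgroup.subgroupOfEquivOfLe hS).symm
  obtain ⟨U, hU⟩ := hS'.exists_le_sylow
  obtain ⟨T, hT⟩ := (hp.of_equiv (Subgroup.subgroupOfEquivOfLe hP).symm).exists_le_sylow
  obtain ⟨m, hm⟩ := IsPGroup.iff_card.1 U.2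
  have hmn : m ≤ n := by
    by_contra h
    exact hn ((pow_dvd_pow 2 (by omega)).trans (hm ▸ Subgroup.card_subgroup_dvd_card _))
  have hUS : (U : Subgroup G) = S.subgroupOf G := by
    refine (Subgroup.eq_of_le_of_card_ge hU ?_).symm
    rw [hm, Nat.card_congr (Subgroup.subgroupOfEquivOfLe hS).toEquiv, hc]
    exact Nat.pow_le_pow_right (by norm_num) hmn
  obtain ⟨g, hg⟩ := MulAction.exists_smul_eq G T U
  refine ⟨g.1, g.2, fun x hx => ?_⟩
  have h1 : g * ⟨x, hP hx⟩ * g⁻¹ ∈ (U : Subgroup G) := by
    rw [← hg]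
    exact ⟨⟨x, hP hx⟩, hT (show (⟨x, hP hx⟩ : G) ∈ P.subgroupOf G from hx), rfl⟩
  rw [hUS] at h1
  exact h1

/-! ## The action on the non-singular vectors -/

/-- The isometries fixing a vector. -/
def fixX (x : V) : Subgroup O where
  carrier := {o | o.1 x = x}
  one_mem' := rfl
  mul_mem' := fun {a b} ha hb => by
    show (a * b).1 x = x
    rw [oG_mul_apply, hb, ha]
  inv_mem' := fun {a} ha => by
    refine a.1.injective ?_
    show a.1 ((a⁻¹).1 x) = a.1 x
    rw [← oG_mul_apply, mul_inv_cancel, oG_one_apply, ha]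

theorem mem_fixX {x : V} {o : O} : o ∈ fixX x ↔ o.1 x = x := Iff.rfl

theorem orbitNs_check : (orbitNs.all uw && allBelow 256 fun v => !(qn v) ||
    orbitNs.any fun w => Nat.beq (ap8 (wc w) 17) v) = true := by
  decide +kernel

theorem q_one_iff {v : ℕ} (hv : v < 256) : qP 4 (dc v) = 1 ↔ qn v = true := by
  rw [q_dc hv, bz_eq_one]

/-- The smaller image is transitive on the non-singular vectors. -/
theorem exists_to {y : V} (hy : qP 4 y = 1) : ∃ g ∈ u4, g.1 (dc 17) = y := by
  obtain ⟨i, rfl⟩ := dc_surj y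
  have h := orbitNs_check
  rw [Bool.and_eq_true] at h
  have h2 := allBelow_eq_true.mp h.2 i.val i.2
  rw [(q_one_iff i.2).1 hy, Bool.not_true, Bool.false_or] at h2
  obtain ⟨w, hw, e⟩ := List.any_eq_true.1 h2
  exact ⟨wO w, wO_mem_u4 w (List.all_eq_true.1 h.1 w hw), by
    rw [(rep_wO w).apply (by norm_num), Nat.eq_of_beq_eq_true e]⟩

theorem exists_between {G : Subgroup O} (hG : u4 ≤ G) {x y : V} (hx : qP 4 x = 1) (hy : qP 4 y = 1) :
    ∃ g ∈ G, g.1 x = y := by
  obtain ⟨a, ha, rfl⟩ := exists_to hx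
  obtain ⟨b, hb, rfl⟩ := exists_to hy
  refine ⟨b * a⁻¹, G.mul_mem (hG hb) (G.inv_mem (hG ha)), ?_⟩
  rw [← oG_mul_apply, inv_mul_cancel_right]

theorem card_ns : Nat.card {v : V // qP 4 v = 1} = 120 := by
  have e : {i : Fin 256 // qn i.val = true} ≃ {v : V // qP 4 v = 1} :=
    { toFun := fun i => ⟨dc i.1.val, (q_one_iff i.1.2).2 i.2⟩
      invFun := fun v => ⟨cd v.1, (q_one_iff (cd v.1).2).1 (by rw [dc_cd]; exact v.2)⟩
      left_inv := fun i => Subtype.ext (cd_dc i.1)
      right_inv := fun v => Subtype.ext (dc_cd v.1) }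
  rw [← Nat.card_congr e, Nat.card_eq_fintype_card, Fintype.card_subtype]
  decide +kernel

theorem q_map (o : O) (x : V) : qP 4 (o.1 x) = qP 4 x := o.2 x

theorem card_eq_stab {G : Subgroup O} (hG : u4 ≤ G) {x : V} (hx : qP 4 x = 1) :
    Nat.card G = 120 * Nat.card ↥(G ⊓ fixX x) := by
  letI inst : MulAction G V :=
    { smul := fun g v => g.1.1 v
      one_smul := fun v => rfl
      mul_smul := fun a b v => rfl }
  have horb : MulAction.orbit G x = {v | qP 4 v = 1} := by
    ext v
    constructor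
    · rintro ⟨g, rfl⟩
      exact (q_map g.1 x).trans hx
    · intro hv
      obtain ⟨g, hg, e⟩ := exists_between hG hx hv
      exact ⟨⟨g, hg⟩, e⟩
  have hst : Nat.card ↥(MulAction.stabilizer G x) = Nat.card ↥(G ⊓ fixX x) := Nat.card_congr
    { toFun := fun g => ⟨g.1.1, g.1.2, g.2⟩
      invFun := fun g => ⟨⟨g.1, g.2.1⟩, g.2.2⟩
      left_inv := fun _ => rfl
      right_inv := fun _ => rfl }
  have h := (MulAction.stabilizer G x).card_mul_index
  rw [MulAction.index_stabilizer, horb, hst, ← Nat.card_coe_set_eq,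
    show Nat.card {v : V | qP 4 v = 1} = 120 from card_ns] at h
  rw [← h, mul_comm]

end Cfsg.Agent.Co2ThreeC
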