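import Mathlib

/-!
Quadratic spaces over the field of two elements: for a subspace `U`, two non-singular cosets of `U` that no
isometry fixing `U` pointwise can fuse, except for hyperplanes and perps of anisotropic planes.
-/

set_option autoImplicit false

namespace Cfsg.Agent.Co2ThreeC

open Submodule

theorem zc (c : ZMod 2) : c = 0 ∨ c = 1 := by
  revert c; decide

/-- A non-degenerate quadratic form over the field of two elements. -/
structure Space (V : Type*) [AddCommGroup V] [Module (ZMod 2) V] where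
  q : V → ZMod 2
  B : LinearMap.BilinForm (ZMod 2) V
  q_add : ∀ x y, q (x + y) = q x + q y + B x y
  nd : ∀ x, (∀ y, B x y = 0) → x = 0

namespace Space

variable {V : Type*} [AddCommGroup V] [Module (ZMod 2) V] (S : Space V)

theorem add_self (x : V) : x + x = 0 := by
  rw [← two_smul (ZMod 2) x, show (2 : ZMod 2) = 0 from rfl, zero_smul]

theorem sub_eq_add (x y : V) : x - y = x + y := by
  rw [sub_eq_add_neg, neg_eq_of_add_eq_zero_right (add_self y)]

theorem q_zero : S.q 0 = 0 := by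
  have h := S.q_add 0 0
  simp only [map_zero, LinearMap.zero_apply, add_zero] at h
  exact left_eq_add.mp h

theorem symm (x y : V) : S.B x y = S.B y x := by
  have h := S.q_add x y
  rw [add_comm x y, S.q_add y x, add_comm (S.q y) (S.q x)] at h
  exact (add_left_cancel h).symm

theorem self (x : V) : S.B x x = 0 := by
  have h := S.q_add x x
  rw [add_self, S.q_zero] at h
  rcases zc (S.q x) with e | e <;> rcases zc (S.B x x) with e' | e' <;> rw [e, e'] at h <;>
    first | exact e' | exact absurd h (by decide)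

theorem refl : S.B.IsRefl := fun x y h => by rw [S.symm]; exact h

theorem nondeg : S.B.Nondegenerate :=
  ⟨fun x h => S.nd x h, fun y h => S.nd y fun x => (S.symm y x).trans (h x)⟩

/-- The perp. -/
abbrev perp (U : Submodule (ZMod 2) V) : Submodule (ZMod 2) V := S.B.orthogonal U

theorem mem_perp {U : Submodule (ZMod 2) V} {x : V} : x ∈ S.perp U ↔ ∀ u ∈ U, S.B u x = 0 :=
  LinearMap.BilinForm.mem_orthogonal_iff

theorem perp_perp [Finite V] (U : Submodule (ZMod 2) V) : S.perp (S.perp U) = U :=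
  LinearMap.BilinForm.orthogonal_orthogonal S.nondeg S.refl U

theorem perp_bot : S.perp ⊥ = ⊤ :=
  eq_top_iff.2 fun x _ => S.mem_perp.2 fun u hu => by
    rw [(Submodule.mem_bot _).1 hu, map_zero, LinearMap.zero_apply]

/-- An additive isometry preserves the polar form. -/
theorem polar_map {g : V → V} (hadd : ∀ x y, g (x + y) = g x + g y) (hq : ∀ x, S.q (g x) = S.q x)
    (x y : V) : S.B (g x) (g y) = S.B x y := by
  have h := S.q_add (g x) (g y)
  rw [← hadd, hq, hq, hq, S.q_add] at h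
  exact (add_left_cancel h).symm

/-- A singular coset makes the subspace totally isotropic. -/
theorem isotropic_of_coset {H : Submodule (ZMod 2) V} {y : V} (h : ∀ k ∈ H, S.q (y + k) = 0) :
    ∀ a ∈ H, ∀ b ∈ H, S.B a b = 0 := by
  have hy : S.q y = 0 := by simpa using h 0 H.zero_mem
  have hlin : ∀ a ∈ H, S.q a = S.B y a := fun a ha => by
    have h1 := h a ha
    rw [S.q_add, hy, zero_add] at h1
    rcases zc (S.q a) with e | e <;> rcases zc (S.B y a) with e' | e' <;> rw [e, e'] at h1 <;>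
      first | exact e.trans e'.symm | exact absurd h1 (by decide)
  intro a ha b hb
  have h1 := S.q_add a b
  rw [hlin a ha, hlin b hb, hlin _ (H.add_mem ha hb), map_add] at h1
  exact left_eq_add.mp h1

/-- The polar form vanishes where the form vanishes. -/
theorem isotropic_of_zero {H : Submodule (ZMod 2) V} (h : ∀ k ∈ H, S.q k = 0) :
    ∀ a ∈ H, ∀ b ∈ H, S.B a b = 0 :=
  S.isotropic_of_coset (y := 0) fun k hk => by rw [zero_add]; exact h k hk

/-- The subspaces treated separately. -/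
def Special (U : Submodule (ZMod 2) V) : Prop :=
  U = ⊤ ∨ (∃ v, v ≠ 0 ∧ ∀ x, x ∈ U ↔ S.B v x = 0) ∨
    ∃ w₁ w₂, S.q w₁ = 1 ∧ S.q w₂ = 1 ∧ S.q (w₁ + w₂) = 1 ∧
      ∀ x, x ∈ U ↔ S.B w₁ x = 0 ∧ S.B w₂ x = 0

/-- Two non-singular cosets which stay apart. -/
def Apart (U : Submodule (ZMod 2) V) : Prop :=
  ∃ n₁ n₂, S.q n₁ = 1 ∧ S.q n₂ = 1 ∧ n₁ ∉ U ∧ n₂ ∉ U ∧
    ∀ g : V → V, (∀ x y, g (x + y) = g x + g y) → (∀ x, S.q (g x) = S.q x) → (∀ u ∈ U, g u = u) →
      g n₁ - n₂ ∉ U

variable [Finite V]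

theorem apart_nondeg {U : Submodule (ZMod 2) V} (hU : U ≠ ⊥) (hR : ∀ x ∈ U, x ∈ S.perp U → x = 0) :
    S.Special U ∨ S.Apart U := by
  by_cases htop : U = ⊤
  · exact Or.inl (Or.inl htop)
  have hW : ∀ {T : Submodule (ZMod 2) V}, T ≠ ⊥ → (∀ x ∈ T, x ∈ S.perp T → x = 0) →
      ∃ x ∈ T, S.q x = 1 := by
    intro T hT hT'
    by_contra hno
    push Not at hno
    have hiso := S.isotropic_of_zero fun k hk => (zc (S.q k)).resolve_right (hno k hk)
    exact hT ((Submodule.eq_bot_iff T).2 fun x hx =>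
      hT' x hx (S.mem_perp.2 fun u hu => hiso u hu x hx))
  obtain ⟨u, hu, hu1⟩ := hW hU hR
  have hperp : S.perp U ≠ ⊥ := fun e => htop (by
    rw [← S.perp_perp U, e, S.perp_bot])
  have hR' : ∀ x ∈ S.perp U, x ∈ S.perp (S.perp U) → x = 0 := fun x hx hx' => by
    rw [S.perp_perp] at hx'; exact hR x hx' hx
  obtain ⟨w₁, hw₁, hq₁⟩ := hW hperp hR'
  have hnot : ∀ {w : V}, w ∈ S.perp U → w ≠ 0 → w ∉ U := fun hw h0 hwU => h0 (hR _ hwU hw)
  by_cases hex : ∃ w₀ ∈ S.perp U, w₀ ≠ 0 ∧ S.q w₀ = 0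
  · obtain ⟨w₀, hw₀, hw00, hq₀⟩ := hex
    refine Or.inr ⟨w₁, w₀ + u, hq₁, ?_, hnot hw₁ (fun e => ?_), fun h => hnot hw₀ hw00 ?_,
      fun g hadd hq hfix h => ?_⟩
    · rw [S.q_add, hq₀, hu1, S.symm, S.mem_perp.1 hw₀ u hu]; rfl
    · rw [e, S.q_zero] at hq₁; exact absurd hq₁ (by decide)
    · simpa using U.sub_mem h hu
    · have hg : g w₁ ∈ S.perp U := S.mem_perp.2 fun x hx => by
        rw [← hfix x hx, S.polar_map hadd hq]; exact S.mem_perp.1 hw₁ x hx
      have h1 : g w₁ - w₀ ∈ U := by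
        have h2 := U.add_mem h hu
        rwa [sub_add_eq_sub_sub, sub_add_cancel] at h2
      have h2 := hR _ h1 ((S.perp U).sub_mem hg hw₀)
      rw [sub_eq_zero] at h2
      have h3 := hq w₁
      rw [h2, hq₀, hq₁] at h3
      exact absurd h3 (by decide)
  · push Not at hex
    have hone : ∀ w ∈ S.perp U, w ≠ 0 → S.q w = 1 := fun w hw h0 =>
      (zc (S.q w)).resolve_left (hex w hw h0)
    have hne : ∀ {w}, S.q w = 1 → w ≠ 0 := fun h e => by
      rw [e, S.q_zero] at h; exact absurd h (by decide)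
    have hB : ∀ a ∈ S.perp U, ∀ b ∈ S.perp U, a ≠ 0 → b ≠ 0 → a + b ≠ 0 → S.B a b = 1 := by
      intro a ha b hb ha0 hb0 hab
      have h := S.q_add a b
      rw [hone a ha ha0, hone b hb hb0, hone _ ((S.perp U).add_mem ha hb) hab] at h
      rcases zc (S.B a b) with e | e
      · rw [e] at h; exact absurd h (by decide)
      · exact e
    obtain ⟨w₂, hw₂, hw20, hw21⟩ : ∃ w₂ ∈ S.perp U, w₂ ≠ 0 ∧ w₂ ≠ w₁ := by
      by_contra hcon
      push Not at hcon
      refine hne hq₁ (hR' w₁ hw₁ (S.mem_perp.2 fun x hx => ?_))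
      by_cases hx0 : x = 0
      · rw [hx0, map_zero, LinearMap.zero_apply]
      · rw [hcon x hx hx0, S.self]
    have h12 : w₁ + w₂ ≠ 0 := fun e => hw21 (by
      rw [← sub_eq_zero, sub_eq_add, add_comm]; exact e)
    refine Or.inl (Or.inr (Or.inr ⟨w₁, w₂, hq₁, hone _ hw₂ hw20,
      hone _ ((S.perp U).add_mem hw₁ hw₂) h12, fun x => ⟨fun hx => ⟨?_, ?_⟩, fun hx => ?_⟩⟩))
    · rw [S.symm]; exact S.mem_perp.1 hw₁ x hx
    · rw [S.symm]; exact S.mem_perp.1 hw₂ x hx
    · rw [← S.perp_perp U]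
      refine S.mem_perp.2 fun w hw => ?_
      by_cases e1 : w = 0
      · rw [e1, map_zero, LinearMap.zero_apply]
      by_cases e2 : w = w₁
      · rw [e2]; exact hx.1
      by_cases e3 : w = w₂
      · rw [e3]; exact hx.2
      by_cases e4 : w = w₁ + w₂
      · rw [e4, map_add, LinearMap.add_apply, hx.1, hx.2, add_zero]
      exfalso
      have d : ∀ {p q : V}, p ≠ q → p + q ≠ 0 := fun h e => h (by rw [← sub_eq_zero, sub_eq_add]; exact e)
      have hA := hB _ ((S.perp U).add_mem hw₁ hw₂) _ hw h12 e1 (d (Ne.symm e4))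
      rw [map_add, LinearMap.add_apply, hB _ hw₁ _ hw (hne hq₁) e1 (d (Ne.symm e2)),
        hB _ hw₂ _ hw hw20 e1 (d (Ne.symm e3))] at hA
      exact absurd hA (by decide)

theorem apart_coisotropic {U : Submodule (ZMod 2) V} (htop : U ≠ ⊤) (hle : S.perp U ≤ U) :
    S.Special U ∨ S.Apart U := by
  obtain ⟨y, -, hy⟩ := SetLike.exists_of_lt (lt_top_iff_ne_top.2 htop)
  have hfix : ∀ g : V → V, (∀ x z, g (x + z) = g x + g z) → (∀ x, S.q (g x) = S.q x) →
      (∀ u ∈ U, g u = u) → ∀ n, g n - n ∈ U := by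
    intro g hadd hq hf n
    rw [← S.perp_perp U]
    refine S.mem_perp.2 fun r hr => ?_
    rw [map_sub]
    conv_lhs => arg 1; rw [← hf r (hle hr), S.polar_map hadd hq]
    exact sub_self _
  by_cases hy' : ∃ y', y' ∉ U ∧ y' - y ∉ U
  · right
    obtain ⟨y', hy'U, hd⟩ := hy'
    have good : ∀ z, (∀ k ∈ U, S.q (z + k) = 0) ∨ ∃ n, S.q n = 1 ∧ n - z ∈ U := fun z => by
      by_cases h : ∃ k ∈ U, S.q (z + k) = 1
      · obtain ⟨k, hk, h1⟩ := h
        exact Or.inr ⟨z + k, h1, by simpa using hk⟩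
      · push Not at h
        exact Or.inl fun k hk => (zc _).resolve_right (h k hk)
    have uniq : ∀ z z', z - z' ∉ U → (∀ k ∈ U, S.q (z + k) = 0) → ¬ ∀ k ∈ U, S.q (z' + k) = 0 := by
      intro z z' hzz hz hz'
      refine hzz (hle (S.mem_perp.2 fun u hu => ?_))
      have a1 := hz u hu
      have a2 := hz' u hu
      have a0 := hz 0 U.zero_mem
      have a0' := hz' 0 U.zero_mem
      rw [add_zero] at a0 a0'
      rw [S.q_add, a0] at a1
      rw [S.q_add, a0'] at a2
      rw [map_sub, S.symm u z, S.symm u z', sub_eq_zero]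
      exact add_left_cancel (a1.trans a2.symm)
    have fin : ∀ z z' n n', z ∉ U → z' ∉ U → z - z' ∉ U → S.q n = 1 → n - z ∈ U → S.q n' = 1 →
        n' - z' ∈ U → S.Apart U := by
      intro z z' n n' hz hz' hzz hn hnz hn' hnz'
      refine ⟨n, n', hn, hn', fun h => hz ?_, fun h => hz' ?_, fun g hadd hq hf h => hzz ?_⟩
      · simpa using U.sub_mem h hnz
      · simpa using U.sub_mem h hnz'
      · have h2 := U.sub_mem h (hfix g hadd hq hf n)
        have e : z - z' = (g n - n' - (g n - n)) - (n - z) + (n' - z') := by abel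
        rw [e]; exact U.add_mem (U.sub_mem h2 hnz) hnz'
    have e1 : y - (y + y') = -y' := by abel
    have e2 : y' - (y + y') = -y := by abel
    have hsum : y + y' ∉ U := fun h => hd (by rw [sub_eq_add, add_comm]; exact h)
    have hyy : y - y' ∉ U := fun h => hd (by rw [← neg_sub]; exact U.neg_mem h)
    have h13 : y - (y + y') ∉ U := fun h => hy'U (neg_mem_iff.1 (e1 ▸ h))
    have h23 : y' - (y + y') ∉ U := fun h => hy (neg_mem_iff.1 (e2 ▸ h))
    rcases good y with b1 | ⟨n1, hn1, hz1⟩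
    · obtain ⟨n2, hn2, hz2⟩ := (good y').resolve_left (uniq _ _ hyy b1)
      obtain ⟨n3, hn3, hz3⟩ := (good (y + y')).resolve_left (uniq _ _ h13 b1)
      exact fin _ _ n2 n3 hy'U hsum h23 hn2 hz2 hn3 hz3
    rcases good y' with b2 | ⟨n2, hn2, hz2⟩
    · obtain ⟨n3, hn3, hz3⟩ := (good (y + y')).resolve_left (uniq _ _ h23 b2)
      exact fin _ _ n1 n3 hy hsum h13 hn1 hz1 hn3 hz3
    · exact fin _ _ n1 n2 hy hy'U hyy hn1 hz1 hn2 hz2
  · push Not at hy'
    left; right; left
    obtain ⟨v, hv, hv0⟩ := Submodule.exists_mem_ne_zero_of_ne_bot (p := S.perp U) (fun e => htop (by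
      rw [← S.perp_perp U, e, S.perp_bot]))
    refine ⟨v, hv0, fun x => ⟨fun hx => by rw [S.symm]; exact S.mem_perp.1 hv x hx, fun hx => ?_⟩⟩
    by_contra hxU
    have hvy : S.B v y = 0 := by
      have h1 := S.mem_perp.1 hv _ (hy' x hxU)
      rwa [map_sub, LinearMap.sub_apply, S.symm x v, S.symm y v, hx, zero_sub, neg_eq_zero] at h1
    refine hv0 (S.nd v fun z => ?_)
    by_cases hz : z ∈ U
    · rw [S.symm]; exact S.mem_perp.1 hv z hz
    · have h1 := S.mem_perp.1 hv _ (hy' z hz)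
      rw [map_sub, LinearMap.sub_apply, S.symm z v, S.symm y v, hvy, sub_zero] at h1
      exact h1

/-- **Two non-singular cosets.** -/
theorem two_classes {U : Submodule (ZMod 2) V} (hU : U ≠ ⊥) : S.Special U ∨ S.Apart U := by
  by_cases htop : U = ⊤
  · exact Or.inl (Or.inl htop)
  by_cases hR : ∀ x ∈ U, x ∈ S.perp U → x = 0
  · exact S.apart_nondeg hU hR
  by_cases hle : S.perp U ≤ U
  · exact S.apart_coisotropic htop hle
  push Not at hR
  obtain ⟨r, hrU, hrP, hr0⟩ := hR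
  obtain ⟨H, hH⟩ : ∃ H, S.perp (U ⊓ S.perp U) = H := ⟨_, rfl⟩
  have hUH : U ≤ H := hH ▸ fun x hx => S.mem_perp.2 fun a ha => by
    rw [S.symm]; exact S.mem_perp.1 ha.2 x hx
  have hPH : S.perp U ≤ H := hH ▸ fun x hx => S.mem_perp.2 fun a ha => S.mem_perp.1 hx a ha.1
  obtain ⟨k, hkP, hkU⟩ := SetLike.not_le_iff_exists.1 hle
  obtain ⟨n₁, hn₁H, hn₁U, hq₁⟩ : ∃ n ∈ H, n ∉ U ∧ S.q n = 1 := by
    by_contra hno
    push Not at hno
    have hz : ∀ x ∈ H, x ∉ U → S.q x = 0 := fun x h1 h2 => (zc _).resolve_right (hno x h1 h2)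
    have hU0 : ∀ u ∈ U, S.q u = 0 := fun u hu => by
      have h1 := hz (k + u) (H.add_mem (hPH hkP) (hUH hu)) fun h => hkU (by
        simpa using U.sub_mem h hu)
      rwa [S.q_add, hz k (hPH hkP) hkU, zero_add, S.symm, S.mem_perp.1 hkP u hu, add_zero] at h1
    have hiso := S.isotropic_of_zero (H := S.perp U) fun x hx => by
      by_cases hxU : x ∈ U
      · exact hU0 x hxU
      · exact hz x (hPH hx) hxU
    refine hle fun x hx => ?_
    rw [← S.perp_perp U]
    exact S.mem_perp.2 fun a ha => hiso a ha x hx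
  obtain ⟨n₂, hn₂H, hq₂⟩ : ∃ n, n ∉ H ∧ S.q n = 1 := by
    obtain ⟨y, -, hy⟩ := SetLike.exists_of_lt (lt_top_iff_ne_top.2 (show H ≠ ⊤ from fun e => hr0
      (S.nd r fun z => by
        have hz : z ∈ S.perp (U ⊓ S.perp U) := by rw [hH, e]; trivial
        exact S.mem_perp.1 hz r ⟨hrU, hrP⟩)))
    by_contra hno
    push Not at hno
    have hiso := S.isotropic_of_coset (H := H) (y := y) fun h hh =>
      (zc _).resolve_right (hno (y + h) fun h' => hy (by simpa using H.sub_mem h' hh))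
    refine hle fun x hx => ?_
    rw [← S.perp_perp U]
    exact S.mem_perp.2 fun a ha => hiso a (hPH ha) x (hPH hx)
  refine Or.inr ⟨n₁, n₂, hq₁, hq₂, hn₁U, fun h => hn₂H (hUH h), fun g hadd hq hfix h => hn₂H ?_⟩
  have hg : g n₁ ∈ H := hH ▸ S.mem_perp.2 fun a ha => by
    rw [← hfix a ha.1, S.polar_map hadd hq]
    exact S.mem_perp.1 (hH ▸ hn₁H) a ha
  simpa using H.sub_mem hg (hUH h)

end Space

end Cfsg.Agent.Co2ThreeC
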