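import Cfsg.Agent.Co2ThreeC.Quad
import Cfsg.Agent.TwoClassClosed.Core

/-!
A 2-subgroup `K = ι(V)` with normaliser `L` acting by isometries: the non-singular class is strongly closed.

The elements of order three of `L` fixing a point of `K` are rigid, and an involution of `L` outside `K`
commutes with an element of order three or has too large a 2-subgroup in its centraliser.
-/

set_option autoImplicit false
set_option linter.unusedSectionVars false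

namespace Cfsg.Agent.Co2ThreeC

open Subgroup TwoClassClosed

/-- The hypotheses. -/
structure Conf {M : Type*} [Group M] (L : Subgroup M) {V : Type*} [AddCommGroup V] [Module (ZMod 2) V]
    (S : Space V) (ι : V → M) : Prop where
  hom : ∀ a b, ι (a + b) = ι a * ι b
  inj : Function.Injective ι
  mem : ∀ v, ι v ∈ L
  act : ∀ l ∈ L, ∃ g : V → V, (∀ v, l * ι v * l⁻¹ = ι (g v)) ∧ ∀ v, S.q (g v) = S.q v
  norm : ∀ g : M, (∀ v, ∃ w, g * ι v * g⁻¹ = ι w) → g ∈ L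
  cent : ∀ l ∈ L, (∀ v, Commute l (ι v)) → ∃ w, l = ι w
  three : ∀ e ∈ L, e ^ 3 = 1 → e ≠ 1 → ∀ v, v ≠ 0 → Commute e (ι v) → Rigid L e
  weak : ∀ x, S.q x = 1 → ∀ E : Subgroup M, E ≤ L → Nat.card E = Nat.card V →
    (∀ a ∈ E, a * a = 1) → ι x ∈ E → ∀ a ∈ E, ∃ w, a = ι w
  div3 : ∀ x, S.q x = 1 → 3 ∣ Nat.card ↥(L ⊓ centralizer ({ι x} : Set M))
  big : ∀ j ∈ L, j * j = 1 → (∀ w, j ≠ ι w) →
    (∃ e ∈ L, e ^ 3 = 1 ∧ e ≠ 1 ∧ Commute e j) ∨
    ∀ x, S.q x = 1 → ∃ P : Subgroup M, P ≤ L ∧ IsPGroup 2 P ∧ (∀ p ∈ P, Commute p j) ∧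
      ¬ Nat.card P ∣ Nat.card ↥(L ⊓ centralizer ({ι x} : Set M))
  fixed : ∀ j ∈ L, j * j = 1 → (∀ w, j ≠ ι w) →
    (∃ x, S.q x = 1 ∧ Commute j (ι x)) ∨
    ∃ e ∈ L, e ^ 3 = 1 ∧ e ≠ 1 ∧ Commute e j
  gen : ∀ v, ∃ y, S.q y = 1 ∧ S.B v y = 0
  sing : ∃ s, s ≠ 0 ∧ S.q s = 0
  hyper : ∀ v, v ≠ 0 → ∃ e ∈ L, ∃ v', v' ≠ 0 ∧ v' ≠ v ∧ Rigid L e ∧ e ^ 3 = 1 ∧
    e * ι v * e⁻¹ = ι v' ∧ e * ι v' * e⁻¹ = ι (v + v') ∧
    ∀ l ∈ L, (∀ u, S.B v u = 0 → S.B v' u = 0 → Commute l (ι u)) → ∃ w, l = ι w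
  plane : ∀ w₁ w₂, S.q w₁ = 1 → S.q w₂ = 1 → S.q (w₁ + w₂) = 1 →
    ∀ l ∈ L, (∀ u, S.B w₁ u = 0 → S.B w₂ u = 0 → Commute l (ι u)) → ∃ w, l = ι w

namespace Conf

variable {M : Type*} [Group M] {L : Subgroup M} {V : Type*} [AddCommGroup V] [Module (ZMod 2) V]
  {S : Space V} {ι : V → M} (h : Conf L S ι)

include h

theorem map_zero : ι 0 = 1 := by
  have e := h.hom 0 0
  rw [add_zero] at e
  exact left_eq_mul.1 e

theorem sq (v : V) : ι v * ι v = 1 := by rw [← h.hom, Space.add_self, h.map_zero]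

theorem inv_eq (v : V) : (ι v)⁻¹ = ι v := inv_eq_of_mul_eq_one_right (h.sq v)

theorem comm (a b : V) : Commute (ι a) (ι b) := by
  show ι a * ι b = ι b * ι a
  rw [← h.hom, ← h.hom, add_comm]

/-- The subgroup attached to a subspace. -/
def img (U : Submodule (ZMod 2) V) : Subgroup M where
  carrier := {k | ∃ v ∈ U, ι v = k}
  one_mem' := ⟨0, U.zero_mem, h.map_zero⟩
  mul_mem' := by
    rintro _ _ ⟨a, ha, rfl⟩ ⟨b, hb, rfl⟩
    exact ⟨a + b, U.add_mem ha hb, h.hom a b⟩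
  inv_mem' := by
    rintro _ ⟨a, ha, rfl⟩
    exact ⟨a, ha, (h.inv_eq a).symm⟩

theorem mem_img {U : Submodule (ZMod 2) V} {v : V} (hv : v ∈ U) : ι v ∈ h.img U := ⟨v, hv, rfl⟩

theorem img_le (U : Submodule (ZMod 2) V) : h.img U ≤ L := by
  rintro _ ⟨v, -, rfl⟩; exact h.mem v

theorem img_le_top (U : Submodule (ZMod 2) V) : h.img U ≤ h.img ⊤ := by
  rintro _ ⟨v, -, rfl⟩; exact h.mem_img Submodule.mem_top

theorem finiteV [Finite M] : Finite V := Finite.of_injective ι h.inj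

theorem card_img_top : Nat.card (h.img ⊤) = Nat.card V :=
  Nat.card_congr ((Equiv.ofBijective (fun v => (⟨ι v, h.mem_img Submodule.mem_top⟩ : h.img ⊤))
    ⟨fun a b e => h.inj (congrArg Subtype.val e), by
      rintro ⟨_, v, -, rfl⟩; exact ⟨v, rfl⟩⟩).symm)

/-- The action of an element of `L` preserves the form and is additive. -/
theorem act' {l : M} (hl : l ∈ L) : ∃ g : V → V, (∀ v, l * ι v * l⁻¹ = ι (g v)) ∧
    (∀ x y, g (x + y) = g x + g y) ∧ ∀ v, S.q (g v) = S.q v := by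
  obtain ⟨g, hg, hq⟩ := h.act l hl
  refine ⟨g, hg, fun x y => h.inj ?_, hq⟩
  rw [h.hom, ← hg, ← hg, ← hg, h.hom]
  group

theorem q_conj {l : M} (hl : l ∈ L) {a b : V} (e : l * ι a * l⁻¹ = ι b) : S.q b = S.q a := by
  obtain ⟨g, hg, -, hq⟩ := h.act' hl
  rw [← h.inj ((hg a).symm.trans e), hq]

theorem ne_zero {x : V} (hx : S.q x = 1) : x ≠ 0 := fun e => by
  rw [e, S.q_zero] at hx; exact absurd hx (by decide)

/-- An element normalising a subgroup containing a conjugate of `K` inside `L`. -/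
theorem mem_of_normalizes {x : V} (hx : S.q x = 1) {P : Subgroup M} (hPL : P ≤ L)
    (hKP : h.img ⊤ ≤ P) {n : M} (hn : ∀ p ∈ P, n * p * n⁻¹ ∈ P) (hnx : Commute n (ι x)) : n ∈ L := by
  refine h.norm n fun v => ?_
  refine h.weak x hx ((h.img ⊤).map (MulAut.conj n).toMonoidHom) ?_ ?_ ?_ ?_ _
    ⟨_, h.mem_img Submodule.mem_top, rfl⟩
  · rintro _ ⟨k, hk, rfl⟩; exact hPL (hn k (hKP hk))
  · rw [card_map_of_injective (MulAut.conj n).injective, h.card_img_top]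
  · rintro _ ⟨k, hk, rfl⟩
    obtain ⟨v, -, rfl⟩ := hk
    show n * ι v * n⁻¹ * (n * ι v * n⁻¹) = 1
    rw [show n * ι v * n⁻¹ * (n * ι v * n⁻¹) = n * (ι v * ι v) * n⁻¹ by group, h.sq, mul_one,
      mul_inv_cancel]
  · exact ⟨ι x, h.mem_img Submodule.mem_top, by
      show n * ι x * n⁻¹ = ι x
      rw [hnx.eq, mul_inv_cancel_right]⟩

variable [Finite M]

/-- The 2-subgroups of the centraliser of a non-singular element are no larger than those of `L`. -/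
theorem two_dvd {x : V} (hx : S.q x = 1) {P : Subgroup M} (hP : IsPGroup 2 P)
    (hPx : P ≤ centralizer ({ι x} : Set M)) :
    Nat.card P ∣ Nat.card ↥(L ⊓ centralizer ({ι x} : Set M)) := by
  set C := centralizer ({ι x} : Set M) with hC
  haveI : Fact (Nat.Prime 2) := ⟨Nat.prime_two⟩
  have hKC : h.img ⊤ ≤ L ⊓ C := by
    rintro _ ⟨v, -, rfl⟩
    exact ⟨h.mem v, mem_centralizer_singleton_iff.2 (h.comm v x).eq⟩
  have hK2 : IsPGroup 2 (h.img ⊤) := fun ⟨k, v, _, hv⟩ => ⟨1, Subtype.ext (by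
    show k ^ 2 ^ 1 = 1
    rw [pow_one, pow_two, ← hv, h.sq])⟩
  -- a Sylow subgroup of `L ⊓ C` through `K`
  obtain ⟨T, hT⟩ := (hK2.comap_of_injective (L ⊓ C).subtype Subtype.coe_injective).exists_le_sylow
  set T' := (T : Subgroup ↥(L ⊓ C)).map (L ⊓ C).subtype
  have hT'L : T' ≤ L ⊓ C := map_subtype_le _
  have hKT : h.img ⊤ ≤ T' := fun k hk => ⟨⟨k, hKC hk⟩, hT hk, rfl⟩
  have hT2 : IsPGroup 2 T' := T.2.map _
  -- it is a Sylow subgroup of `C`
  obtain ⟨R, hR⟩ := (hT2.comap_of_injective C.subtype Subtype.coe_injective).exists_le_sylow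
  set R' := (R : Subgroup C).map C.subtype
  have hTR : T' ≤ R' := fun k hk => ⟨⟨k, (hT'L hk).2⟩, hR hk, rfl⟩
  have hR2 : IsPGroup 2 R' := R.2.map _
  have hRC : R' ≤ C := map_subtype_le _
  have heq : T' = R' := Embedded.eq_of_normalizer_inf_le hR2 hTR (by
    rintro n ⟨hnR, hnN⟩
    have hnL : n ∈ L := h.mem_of_normalizes hx (fun p hp => (hT'L hp).1) hKT
      (fun p hp => ((mem_normalizer_iff.1 hnN) p).1 hp) (mem_centralizer_singleton_iff.1 (hRC hnR))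
    -- maximality inside `L ⊓ C`
    have hle : (T : Subgroup ↥(L ⊓ C)) ≤ (R' ⊓ L).comap (L ⊓ C).subtype := fun a ha =>
      ⟨hTR ⟨a, ha, rfl⟩, a.2.1⟩
    have h2 := T.3 ((hR2.to_le inf_le_left).comap_of_injective (L ⊓ C).subtype Subtype.coe_injective) hle
    have hnT : (⟨n, hnL, hRC hnR⟩ : ↥(L ⊓ C)) ∈ (T : Subgroup ↥(L ⊓ C)) :=
      h2 ▸ (show n ∈ R' ⊓ L from ⟨hnR, hnL⟩)
    exact ⟨_, hnT, rfl⟩)
  have h1 : Nat.card P ∣ Nat.card R' := by
    rw [card_map_of_injective C.subtype_injective]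
    obtain ⟨Q, hQ⟩ := (hP.comap_of_injective C.subtype Subtype.coe_injective).exists_le_sylow
    rw [← Nat.card_congr (subgroupOfEquivOfLe hPx).toEquiv,
      Nat.card_congr (R.equiv Q).toEquiv]
    exact card_dvd_of_le hQ
  rw [← heq] at h1
  exact h1.trans (card_dvd_of_le hT'L)

/-- An element of order three of the centraliser of a non-singular element is conjugate into `L`. -/
theorem three_conj {x : V} (hx : S.q x = 1) {y : M} (hy : y ^ 3 = 1) (hyx : Commute y (ι x)) :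
    ∃ c : M, Commute c (ι x) ∧ c * y * c⁻¹ ∈ L := by
  set C := centralizer ({ι x} : Set M) with hC
  haveI : Fact (Nat.Prime 3) := ⟨Nat.prime_three⟩
  obtain ⟨T⟩ : Nonempty (Sylow 3 ↥(L ⊓ C)) := inferInstance
  set T' := (T : Subgroup ↥(L ⊓ C)).map (L ⊓ C).subtype
  have hT'L : T' ≤ L ⊓ C := map_subtype_le _
  have hT3 : IsPGroup 3 T' := T.2.map _
  -- a rigid element of `T'`
  obtain ⟨e, he⟩ := exists_prime_orderOf_dvd_card' (G := (T : Subgroup ↥(L ⊓ C))) 3 (by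
    rw [T.card_eq_multiplicity]
    exact dvd_pow_self _ (Nat.pos_iff_ne_zero.1
      (Nat.prime_three.factorization_pos_of_dvd Nat.card_pos.ne' (h.div3 x hx))))
  set e' : M := ((e : ↥(L ⊓ C)) : M)
  have he3 : e' ^ 3 = 1 := by
    rw [← he]
    exact congrArg (fun t : (T : Subgroup ↥(L ⊓ C)) => ((t : ↥(L ⊓ C)) : M)) (pow_orderOf_eq_one e)
  have he1 : e' ≠ 1 := fun e0 => by
    have : e = 1 := Subtype.ext (Subtype.ext e0)
    rw [this, orderOf_one] at he; omega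
  have hr : Rigid L e' := h.three e' (e : ↥(L ⊓ C)).2.1 he3 he1 x (ne_zero h hx)
    (mem_centralizer_singleton_iff.1 (e : ↥(L ⊓ C)).2.2)
  obtain ⟨R, hR⟩ := (hT3.comap_of_injective C.subtype Subtype.coe_injective).exists_le_sylow
  set R' := (R : Subgroup C).map C.subtype
  have hTR : T' ≤ R' := fun k hk => ⟨⟨k, (hT'L hk).2⟩, hR hk, rfl⟩
  have hR3 : IsPGroup 3 R' := R.2.map _
  have hRC : R' ≤ C := map_subtype_le _
  have heq : T' = R' := Embedded.eq_of_normalizer_inf_le hR3 hTR (by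
    rintro n ⟨hnR, hnN⟩
    have hnL : n ∈ L := hr n (hT'L (((mem_normalizer_iff.1 hnN) e').1
      ⟨(e : ↥(L ⊓ C)), e.2, rfl⟩)).1
    have hle : (T : Subgroup ↥(L ⊓ C)) ≤ (R' ⊓ L).comap (L ⊓ C).subtype := fun a ha =>
      ⟨hTR ⟨a, ha, rfl⟩, a.2.1⟩
    have h2 := T.3 ((hR3.to_le inf_le_left).comap_of_injective (L ⊓ C).subtype Subtype.coe_injective) hle
    have hnT : (⟨n, hnL, hRC hnR⟩ : ↥(L ⊓ C)) ∈ (T : Subgroup ↥(L ⊓ C)) :=
      h2 ▸ (show n ∈ R' ⊓ L from ⟨hnR, hnL⟩)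
    exact ⟨_, hnT, rfl⟩)
  have hz : IsPGroup 3 (zpowers (⟨y, mem_centralizer_singleton_iff.2 hyx.eq⟩ : C)) := by
    rintro ⟨w, hw⟩
    obtain ⟨i, rfl⟩ := mem_zpowers_iff.1 hw
    refine ⟨1, Subtype.ext (Subtype.ext ?_)⟩
    show (y ^ i) ^ (3 ^ 1) = 1
    rw [pow_one, ← zpow_natCast, ← zpow_mul, mul_comm, zpow_mul, zpow_natCast, hy, one_zpow]
  obtain ⟨Q, hQ⟩ := hz.exists_le_sylow
  obtain ⟨c, hc⟩ := MulAction.exists_smul_eq C Q R
  refine ⟨c, mem_centralizer_singleton_iff.1 c.2, ?_⟩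
  have hcy : c * ⟨y, mem_centralizer_singleton_iff.2 hyx.eq⟩ * c⁻¹ ∈ (R : Subgroup C) := by
    rw [← hc]
    exact ⟨_, hQ (mem_zpowers _), rfl⟩
  exact (hT'L (heq.ge ⟨_, hcy, rfl⟩)).1

/-- **The non-singular class is strongly closed.** -/
theorem closed {x : V} (hx : S.q x = 1) {g : M} (hg : g * ι x * g⁻¹ ∈ L) :
    ∃ w, g * ι x * g⁻¹ = ι w := by
  by_contra hno
  push Not at hno
  obtain ⟨j, hj⟩ : ∃ j, g * ι x * g⁻¹ = j := ⟨_, rfl⟩
  rw [hj] at hg hno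
  have hj2 : j * j = 1 := by
    rw [← hj, show g * ι x * g⁻¹ * (g * ι x * g⁻¹) = g * (ι x * ι x) * g⁻¹ by group, h.sq, mul_one,
      mul_inv_cancel]
  have hback : g⁻¹ * j * g = ι x := by rw [← hj]; group
  rcases h.big j hg hj2 hno with ⟨e, heL, he3, he1, hej⟩ | hP
  · obtain ⟨y, hy⟩ : ∃ y, g⁻¹ * e * g = y := ⟨_, rfl⟩
    have hy3 : y ^ 3 = 1 := by
      rw [← hy, show g⁻¹ * e * g = g⁻¹ * e * g⁻¹⁻¹ by group, conj_pow, he3, mul_one, mul_inv_cancel]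
    have hyx : Commute y (ι x) := by
      have := hej.map (MulAut.conj g⁻¹).toMonoidHom
      simp only [MulEquiv.coe_toMonoidHom, MulAut.conj_apply, inv_inv] at this
      rwa [hy, hback] at this
    obtain ⟨c, hcx, hcL⟩ := h.three_conj hx hy3 hyx
    have hr : Rigid L (c * y * c⁻¹) := by
      refine h.three _ hcL (by rw [conj_pow, hy3, mul_one, mul_inv_cancel]) ?_ x (ne_zero h hx) ?_
      · intro e0
        apply he1
        rw [← show g * y * g⁻¹ = e by rw [← hy]; group, conj_eq_one_iff.1 e0]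
        group
      · exact (hcx.mul_left hyx).mul_left hcx.inv_left
    have hgc : g * c⁻¹ ∈ L := hr _ (by
      rw [show g * c⁻¹ * (c * y * c⁻¹) * (g * c⁻¹)⁻¹ = g * y * g⁻¹ by group, ← hy,
        show g * (g⁻¹ * e * g) * g⁻¹ = e by group]
      exact heL)
    obtain ⟨f, hf, -⟩ := h.act _ hgc
    refine hno (f x) ?_
    rw [← hf, ← hj]
    have := hcx.inv_left.eq
    calc g * ι x * g⁻¹ = g * (c⁻¹ * ι x * c) * g⁻¹ := by rw [this, inv_mul_cancel_right]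
      _ = _ := by group
  · obtain ⟨P, hPL, hP2, hPj, hPn⟩ := hP x hx
    refine hPn ?_
    rw [← card_map_of_injective (K := P) (f := (MulAut.conj g⁻¹).toMonoidHom)
      (MulAut.conj g⁻¹).injective]
    refine h.two_dvd hx (hP2.map _) ?_
    rintro _ ⟨p, hp, rfl⟩
    rw [mem_centralizer_singleton_iff, ← hback]
    have := (hPj p hp).map (MulAut.conj g⁻¹).toMonoidHom
    simp only [MulEquiv.coe_toMonoidHom, MulAut.conj_apply, inv_inv] at this ⊢
    exact this.eq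

/-- Conjugating all of `K` into `L` puts `g` into `L`. -/
theorem weak_closed {g : M} (hg : ∀ v, g * ι v * g⁻¹ ∈ L) : g ∈ L := by
  refine h.norm g fun v => ?_
  obtain ⟨y, hy, hvy⟩ := h.gen v
  obtain ⟨a, ha⟩ := h.closed hy (hg y)
  by_cases hv : S.q v = 1
  · exact h.closed hv (hg v)
  · have hv0 : S.q v = 0 := (zc _).resolve_right hv
    have hs : S.q (v + y) = 1 := by rw [S.q_add, hv0, hy, hvy]; rfl
    obtain ⟨b, hb⟩ := h.closed hs (hg _)
    refine ⟨b + a, ?_⟩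
    rw [h.hom, ← hb, ← ha]
    have e : ι v = ι (v + y) * ι y := by rw [← h.hom, add_assoc, Space.add_self, add_zero]
    conv_lhs => rw [e]
    group

end Conf

end Cfsg.Agent.Co2ThreeC
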